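/-
Orthogonal groups of quadratic forms on `ι → F`: reflections, Eichler transformations, the fixed space,
generation by reflections (any characteristic).
-/
import Mathlib
import Cfsg.Prelude.Def_ClassicalGeometry

set_option autoImplicit false

set_option linter.unusedSectionVars false

namespace CfsgLib.Orth

open Matrix QuadraticMap

variable {ι : Type} [Fintype ι] [DecidableEq ι] {F : Type*} [Field F] {Q : QuadraticForm F (ι → F)}

/-- the isometry group of `Q` -/
abbrev O (Q : QuadraticForm F (ι → F)) : Subgroup (Matrix.GeneralLinearGroup ι F) :=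
  Cfsg.isometryGroup F ⇑Q

/-- the linear map of an isometry -/
def app (g : O Q) : (ι → F) →ₗ[F] (ι → F) :=
  Matrix.mulVecLin ((g : Matrix.GeneralLinearGroup ι F) : Matrix ι ι F)

theorem app_apply (g : O Q) (x : ι → F) :
    app g x = ((g : Matrix.GeneralLinearGroup ι F) : Matrix ι ι F) *ᵥ x := rfl

@[simp] theorem app_one (x : ι → F) : app (1 : O Q) x = x := by simp [app_apply]

@[simp] theorem app_mul (g h : O Q) (x : ι → F) : app (g * h) x = app g (app h x) := by
  simp [app_apply]

@[simp] theorem Q_app (g : O Q) (x : ι → F) : Q (app g x) = Q x := g.2 x x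

@[simp] theorem polar_app (g : O Q) (x y : ι → F) :
    polar Q (app g x) (app g y) = polar Q x y := by
  simp [QuadraticMap.polar, ← map_add]

theorem app_inv_app (g : O Q) (x : ι → F) : app g⁻¹ (app g x) = x := by rw [← app_mul]; simp

theorem app_app_inv (g : O Q) (x : ι → F) : app g (app g⁻¹ x) = x := by rw [← app_mul]; simp

theorem app_injective (g : O Q) : Function.Injective (app g) :=
  Function.LeftInverse.injective (app_inv_app g)

theorem ext_app {g h : O Q} (H : ∀ x, app g x = app h x) : g = h :=
  Subtype.ext (Units.ext (Matrix.ext_of_mulVec_single fun _ => H _))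

/-- build an isometry from a linear map with a two-sided inverse -/
def mkO (L M : (ι → F) →ₗ[F] (ι → F)) (hLM : L.comp M = LinearMap.id) (hML : M.comp L = LinearMap.id)
    (h : ∀ x, Q (L x) = Q x) : O Q :=
  ⟨⟨LinearMap.toMatrix' L, LinearMap.toMatrix' M,
      by rw [← LinearMap.toMatrix'_comp, hLM, LinearMap.toMatrix'_id],
      by rw [← LinearMap.toMatrix'_comp, hML, LinearMap.toMatrix'_id]⟩, fun u _ => by
    simp only [Units.coeHom_apply, LinearMap.toMatrix'_mulVec]
    exact h u⟩

theorem app_mkO (L M : (ι → F) →ₗ[F] (ι → F)) (hLM : L.comp M = LinearMap.id)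
    (hML : M.comp L = LinearMap.id) (h : ∀ x, Q (L x) = Q x) (x : ι → F) :
    app (mkO L M hLM hML h) x = L x :=
  LinearMap.toMatrix'_mulVec L x

theorem polarVec_dotProduct (Q : QuadraticForm F (ι → F)) (v x : ι → F) :
    Cfsg.polarVec ⇑Q v ⬝ᵥ x = polar Q v x := by
  have h : polar Q v x = Q.polarBilin v (∑ j, x j • (Pi.single j 1 : ι → F)) := by
    rw [← pi_eq_sum_univ' x]; rfl
  rw [h, map_sum]
  simp only [map_smul, smul_eq_mul, dotProduct, Cfsg.polarVec, polarBilin_apply_apply]
  exact Finset.sum_congr rfl fun j _ => mul_comm _ _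

theorem polar_self' (x : ι → F) : polar Q x x = 2 * Q x := by
  rw [QuadraticMap.polar_self]; simp

/-! ### Reflections -/

/-- `x ↦ x - Q(v)⁻¹ f(x,v) v`; the identity when `Q v = 0` -/
noncomputable def reflMap (Q : QuadraticForm F (ι → F)) (v : ι → F) : (ι → F) →ₗ[F] (ι → F) :=
  LinearMap.id - ((Q v)⁻¹ • Q.polarBilin v).smulRight v

theorem reflMap_apply (v x : ι → F) :
    reflMap Q v x = x - ((Q v)⁻¹ * polar Q x v) • v := by
  simp [reflMap, polar_comm (f := ⇑Q) x v]

theorem reflMap_reflMap (v : ι → F) : (reflMap Q v).comp (reflMap Q v) = LinearMap.id := by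
  refine LinearMap.ext fun x => ?_
  simp only [LinearMap.comp_apply, LinearMap.id_apply, reflMap_apply, polar_sub_left,
    polar_smul_left, polar_self', smul_eq_mul]
  rcases eq_or_ne (Q v) 0 with h | h
  · simp [h]
  · rw [sub_sub, ← add_smul, sub_eq_self]
    convert zero_smul F v using 2
    field_simp
    ring

theorem Q_reflMap (v x : ι → F) : Q (reflMap Q v x) = Q x := by
  rw [reflMap_apply, sub_eq_add_neg, ← neg_smul, QuadraticMap.map_add ⇑Q,
    QuadraticMap.map_smul, polar_smul_right]
  rcases eq_or_ne (Q v) 0 with h | h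
  · simp [h]
  · simp only [smul_eq_mul]
    field_simp
    ring

/-- the reflection in `v` (the identity when `Q v = 0`) -/
noncomputable def refl (Q : QuadraticForm F (ι → F)) (v : ι → F) : O Q :=
  mkO (reflMap Q v) (reflMap Q v) (reflMap_reflMap v) (reflMap_reflMap v) (Q_reflMap v)

theorem app_refl (v x : ι → F) : app (refl Q v) x = x - ((Q v)⁻¹ * polar Q x v) • v :=
  (app_mkO _ _ _ _ _ x).trans (reflMap_apply v x)

theorem coe_refl (Q : QuadraticForm F (ι → F)) (v : ι → F) :
    ((refl Q v : Matrix.GeneralLinearGroup ι F) : Matrix ι ι F) = Cfsg.reflectionMatrix ⇑Q v := by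
  refine Matrix.ext_of_mulVec_single fun i => (app_refl v _).trans ?_
  simp only [Cfsg.reflectionMatrix, Matrix.sub_mulVec, Matrix.one_mulVec, Matrix.smul_mulVec,
    Matrix.vecMulVec_mulVec, polarVec_dotProduct, op_smul_eq_smul, smul_smul]
  rw [polar_comm]

theorem refl_mul_self (v : ι → F) : refl Q v * refl Q v = 1 :=
  ext_app fun x => by
    rw [app_mul, app_one]
    simp only [refl, app_mkO]
    exact LinearMap.congr_fun (reflMap_reflMap v) x

theorem refl_inv (v : ι → F) : (refl Q v)⁻¹ = refl Q v :=
  inv_eq_of_mul_eq_one_left (refl_mul_self v)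

theorem app_refl_self {v : ι → F} (hv : Q v ≠ 0) : app (refl Q v) v = -v := by
  rw [app_refl, polar_self', show (Q v)⁻¹ * (2 * Q v) = 2 by field_simp]
  module

theorem app_refl_of_ortho {v x : ι → F} (h : polar Q x v = 0) : app (refl Q v) x = x := by
  simp [app_refl, h]

theorem refl_smul {t : F} (ht : t ≠ 0) (v : ι → F) : refl Q (t • v) = refl Q v :=
  ext_app fun x => by
    simp only [app_refl, QuadraticMap.map_smul, polar_smul_right, smul_smul, smul_eq_mul]
    rcases eq_or_ne (Q v) 0 with h | h
    · simp [h]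
    · congr 2; field_simp

theorem refl_neg (v : ι → F) : refl Q (-v) = refl Q v := by
  rw [← neg_one_smul F v, refl_smul (by simp)]

theorem refl_eq_one {v : ι → F} (hv : Q v = 0) : refl Q v = 1 :=
  ext_app fun x => by simp [app_refl, hv]

theorem refl_conj (g : O Q) (v : ι → F) : g * refl Q v * g⁻¹ = refl Q (app g v) :=
  ext_app fun x => by
    have h : polar Q (app g⁻¹ x) v = polar Q x (app g v) := by
      rw [← polar_app g, app_app_inv]
    simp [app_refl, h, app_app_inv]

theorem det_refl {v : ι → F} (hv : Q v ≠ 0) :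
    ((refl Q v : Matrix.GeneralLinearGroup ι F) : Matrix ι ι F).det = -1 := by
  rw [coe_refl, Cfsg.reflectionMatrix, sub_eq_add_neg, ← neg_smul, ← Matrix.smul_vecMulVec,
    Matrix.vecMulVec_eq Unit, Matrix.det_one_add_replicateCol_mul_replicateRow,
    dotProduct_smul, polarVec_dotProduct, polar_self', smul_eq_mul]
  field_simp
  ring

/-- the determinant as a homomorphism -/
noncomputable def detHom (Q : QuadraticForm F (ι → F)) : O Q →* Fˣ :=
  Matrix.GeneralLinearGroup.det.comp (O Q).subtype

theorem detHom_refl {v : ι → F} (hv : Q v ≠ 0) : detHom Q (refl Q v) = -1 :=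
  Units.ext (det_refl hv)

/-! ### Eichler transformations -/

/-- `x ↦ x + f(x,u) a - f(x,a) u - Q(a) f(x,u) u` -/
noncomputable def eichMap (Q : QuadraticForm F (ι → F)) (u a : ι → F) :
    (ι → F) →ₗ[F] (ι → F) :=
  LinearMap.id + (Q.polarBilin u).smulRight a - (Q.polarBilin a).smulRight u
    - (Q a • Q.polarBilin u).smulRight u

theorem eichMap_apply (u a x : ι → F) : eichMap Q u a x =
    x + polar Q x u • a - polar Q x a • u - (Q a * polar Q x u) • u := by
  simp [eichMap, polar_comm (f := ⇑Q) x u, polar_comm (f := ⇑Q) x a]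

theorem eichMap_eq (u a x : ι → F) : eichMap Q u a x =
    x + polar Q x u • a + (-(polar Q x a) - Q a * polar Q x u) • u := by
  rw [eichMap_apply]; module

theorem eichMap_add {u : ι → F} (hu : Q u = 0) {a b : ι → F} (ha : polar Q u a = 0)
    (hb : polar Q u b = 0) (x : ι → F) :
    eichMap Q u a (eichMap Q u b x) = eichMap Q u (a + b) x := by
  have hu2 : polar Q u u = 0 := by rw [polar_self', hu, mul_zero]
  have hb' : polar Q b u = 0 := by rw [polar_comm, hb]
  simp only [eichMap_eq, polar_add_left, polar_smul_left, polar_add_right, hu2, ha, hb',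
    smul_eq_mul, mul_zero, add_zero]
  rw [QuadraticMap.map_add ⇑Q a b, polar_comm (f := ⇑Q) a b]
  module

theorem eichMap_zero (u x : ι → F) : eichMap Q u 0 x = x := by
  simp [eichMap_eq]

theorem Q_eichMap {u : ι → F} (hu : Q u = 0) {a : ι → F} (ha : polar Q u a = 0) (x : ι → F) :
    Q (eichMap Q u a x) = Q x := by
  simp only [eichMap_eq, QuadraticMap.map_add ⇑Q, QuadraticMap.map_smul, polar_add_left,
    polar_smul_left, polar_smul_right, hu, polar_comm (f := ⇑Q) a u, ha, smul_eq_mul,
    mul_zero, add_zero]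
  ring

open scoped Classical in
/-- the Eichler transformation `E(u,a)` (for `Q u = 0`, `u ⊥ a`; the identity otherwise) -/
noncomputable def eich (Q : QuadraticForm F (ι → F)) (u a : ι → F) : O Q :=
  if h : Q u = 0 ∧ polar Q u a = 0 then
    mkO (eichMap Q u a) (eichMap Q u (-a))
      (LinearMap.ext fun x => by
        rw [LinearMap.comp_apply, eichMap_add h.1 h.2 (by rw [polar_neg_right, h.2, neg_zero]),
          add_neg_cancel, eichMap_zero, LinearMap.id_apply])
      (LinearMap.ext fun x => by
        rw [LinearMap.comp_apply, eichMap_add h.1 (by rw [polar_neg_right, h.2, neg_zero]) h.2,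
          neg_add_cancel, eichMap_zero, LinearMap.id_apply])
      (Q_eichMap h.1 h.2)
  else 1

theorem app_eich {u a : ι → F} (hu : Q u = 0) (ha : polar Q u a = 0) (x : ι → F) :
    app (eich Q u a) x =
      x + polar Q x u • a + (-(polar Q x a) - Q a * polar Q x u) • u := by
  rw [eich, dif_pos ⟨hu, ha⟩, app_mkO, eichMap_eq]

theorem eich_add {u : ι → F} (hu : Q u = 0) {a b : ι → F} (ha : polar Q u a = 0)
    (hb : polar Q u b = 0) : eich Q u a * eich Q u b = eich Q u (a + b) :=
  ext_app fun x => by
    rw [app_mul, app_eich hu ha, app_eich hu hb, app_eich hu (by rw [polar_add_right, ha, hb, add_zero]),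
      ← eichMap_eq (Q := Q) u b x, ← eichMap_eq (Q := Q) u a, ← eichMap_eq (Q := Q) u (a + b) x]
    exact eichMap_add hu ha hb x

theorem eich_smul_self {u : ι → F} (hu : Q u = 0) (t : F) : eich Q u (t • u) = 1 :=
  ext_app fun x => by
    have hu2 : polar Q u u = 0 := by rw [polar_self', hu, mul_zero]
    rw [app_eich hu (by rw [polar_smul_right, hu2, smul_zero]), app_one]
    simp only [QuadraticMap.map_smul, polar_smul_right, hu, smul_eq_mul]
    module

theorem eich_eq_refl_mul {u a : ι → F} (hu : Q u = 0) (hua : polar Q u a = 0) (ha : Q a ≠ 0) :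
    eich Q u a = refl Q a * refl Q (a + Q a • u) :=
  ext_app fun x => by
    have hu2 : polar Q u u = 0 := by rw [polar_self', hu, mul_zero]
    have hau : polar Q a u = 0 := by rw [polar_comm, hua]
    have hQ' : Q (a + Q a • u) = Q a := by
      rw [QuadraticMap.map_add ⇑Q, QuadraticMap.map_smul, polar_smul_right, hu, hau]; simp
    simp only [app_eich hu hua, app_mul, app_refl, hQ', polar_sub_left, polar_add_right,
      polar_smul_right, polar_smul_left, polar_self', polar_add_left, hua, smul_eq_mul, mul_zero,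
      add_zero]
    match_scalars <;> field_simp <;> ring

/-! ### Nondegeneracy -/

variable (hQ : Q.polarBilin.Nondegenerate)
include hQ

theorem eq_zero_of_polar {x : ι → F} (h : ∀ y, polar Q x y = 0) : x = 0 :=
  hQ.1 x h

theorem polarBilin_isRefl : LinearMap.IsRefl Q.polarBilin := fun x y h => by
  rw [polarBilin_apply_apply] at h ⊢; rwa [polar_comm]

theorem exists_polar_eq_zero_one {u v : ι → F} (h : v ∉ Submodule.span F {u}) :
    ∃ a, polar Q u a = 0 ∧ polar Q v a = 1 := by
  by_contra hc
  push Not at hc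
  apply h
  rw [← LinearMap.BilinForm.orthogonal_orthogonal hQ (polarBilin_isRefl hQ)
    (Submodule.span F {u}), LinearMap.BilinForm.mem_orthogonal_iff]
  intro a ha
  have h1 : polar Q u a = 0 :=
    LinearMap.BilinForm.mem_orthogonal_iff.1 ha u (Submodule.mem_span_singleton_self u)
  change polar Q a v = 0
  rw [polar_comm]
  by_contra h2
  exact hc ((polar Q v a)⁻¹ • a) (by simp [polar_smul_right, h1])
    (by simp [polar_smul_right, h2])

theorem exists_polar_eq_one {v : ι → F} (hv : v ≠ 0) : ∃ a, polar Q v a = 1 := by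
  obtain ⟨a, -, ha⟩ := exists_polar_eq_zero_one hQ (u := (0 : ι → F)) (v := v) (by simpa using hv)
  exact ⟨a, ha⟩

/-- a subspace on which `Q` vanishes has dimension at most half -/
theorem two_finrank_le {W : Submodule F (ι → F)} (hW : ∀ w ∈ W, Q w = 0) :
    2 * Module.finrank F W ≤ Fintype.card ι := by
  have h1 : W ≤ LinearMap.BilinForm.orthogonal Q.polarBilin W := fun w hw => by
    rw [LinearMap.BilinForm.mem_orthogonal_iff]
    intro n hn
    change polar Q n w = 0
    simp [QuadraticMap.polar, hW n hn, hW w hw, hW _ (W.add_mem hn hw)]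
  have h2 := Submodule.finrank_mono h1
  rw [LinearMap.BilinForm.finrank_orthogonal hQ W, Module.finrank_fintype_fun_eq_card] at h2
  have h3 : Module.finrank F W ≤ Fintype.card ι :=
    (Submodule.finrank_le W).trans (le_of_eq (Module.finrank_fintype_fun_eq_card F))
  omega

omit hQ

/-! ### Fixed space -/

/-- the fixed space of an isometry -/
def fixS (g : O Q) : Submodule F (ι → F) := LinearMap.ker (LinearMap.id - app g)

/-- the image of `1 - g` -/
def movS (g : O Q) : Submodule F (ι → F) := LinearMap.range (LinearMap.id - app g)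

theorem mem_fixS {g : O Q} {x : ι → F} : x ∈ fixS g ↔ app g x = x := by
  simp only [fixS, LinearMap.mem_ker, LinearMap.sub_apply, LinearMap.id_apply]
  rw [sub_eq_zero, eq_comm]

theorem mem_movS {g : O Q} {x : ι → F} : x ∈ movS g ↔ ∃ a, a - app g a = x := by
  simp [movS]

theorem polar_fix_mov {g : O Q} {x y : ι → F} (hx : x ∈ fixS g) (hy : y ∈ movS g) :
    polar Q x y = 0 := by
  obtain ⟨a, rfl⟩ := mem_movS.1 hy
  rw [polar_sub_right]
  nth_rewrite 1 [← polar_app g x a]
  rw [mem_fixS.1 hx, sub_self]

include hQ in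
theorem movS_eq (g : O Q) : movS g = LinearMap.BilinForm.orthogonal Q.polarBilin (fixS g) := by
  refine Submodule.eq_of_le_of_finrank_eq (fun y hy => ?_) ?_
  · rw [LinearMap.BilinForm.mem_orthogonal_iff]
    exact fun x hx => polar_fix_mov hx hy
  · have h := LinearMap.finrank_range_add_finrank_ker
      ((LinearMap.id : (ι → F) →ₗ[F] (ι → F)) - app g)
    rw [LinearMap.BilinForm.finrank_orthogonal hQ, fixS, movS]
    omega

include hQ in
theorem fixS_eq (g : O Q) : fixS g = LinearMap.BilinForm.orthogonal Q.polarBilin (movS g) := by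
  rw [movS_eq hQ, LinearMap.BilinForm.orthogonal_orthogonal hQ (polarBilin_isRefl hQ)]

theorem Q_mov (g : O Q) (a : ι → F) : Q (a - app g a) = polar Q a (a - app g a) := by
  rw [sub_eq_add_neg a, QuadraticMap.map_add ⇑Q a, QuadraticMap.map_neg, Q_app, polar_add_right, polar_self', polar_neg_right]
  ring

/-- left multiplication by `r_v` changes the dimension of the fixed space by at most one -/
theorem finrank_fix_le (g : O Q) (v : ι → F) :
    Module.finrank F (fixS (refl Q v * g)) ≤ Module.finrank F (fixS g) + 1 := by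
  let φ : fixS (refl Q v * g) →ₗ[F] F :=
    ((Q.polarBilin v).comp (app g)).comp (fixS (refl Q v * g)).subtype
  have h1 := LinearMap.finrank_range_add_finrank_ker φ
  have h2 : Module.finrank F (LinearMap.range φ) ≤ 1 := by
    simpa using Submodule.finrank_le (LinearMap.range φ)
  have h3 : Module.finrank F (LinearMap.ker φ) ≤ Module.finrank F (fixS g) := by
    rw [← Submodule.finrank_map_subtype_eq]
    refine Submodule.finrank_mono ?_
    rintro _ ⟨⟨x, hx⟩, hker, rfl⟩
    have hp : polar Q v (app g x) = 0 := hker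
    have hx' := mem_fixS.1 hx
    rw [app_mul, app_refl, polar_comm, hp] at hx'
    simpa [mem_fixS] using hx'
  omega

include hQ in
theorem finrank_fix_of_mem {g : O Q} {v : ι → F} (hv : Q v ≠ 0) (hm : v ∈ movS g) :
    Module.finrank F (fixS (refl Q v * g)) = Module.finrank F (fixS g) + 1 := by
  refine le_antisymm (finrank_fix_le g v) ?_
  obtain ⟨a, ha⟩ := mem_movS.1 hm
  have hga : app g a = a - v := by rw [← ha]; abel
  have hQv : Q v = polar Q a v := by rw [← ha]; exact Q_mov g a
  have hle : fixS g ≤ fixS (refl Q v * g) := fun x hx => by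
    rw [mem_fixS, app_mul, mem_fixS.1 hx, app_refl_of_ortho (polar_fix_mov hx hm)]
  have hamem : a ∈ fixS (refl Q v * g) := by
    rw [mem_fixS, app_mul, hga, map_sub, app_refl_self hv, app_refl, ← hQv,
      inv_mul_cancel₀ hv, one_smul]
    abel
  have hanot : a ∉ fixS g := fun h => hv (by
    rw [← ha, mem_fixS.1 h, sub_self, QuadraticMap.map_zero])
  have hlt : fixS g < fixS (refl Q v * g) :=
    SetLike.lt_iff_le_and_exists.2 ⟨hle, a, hamem, hanot⟩
  exact Submodule.finrank_lt_finrank_of_lt hlt

include hQ in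
theorem finrank_fix_of_not_mem {g : O Q} {v : ι → F} (hv : Q v ≠ 0) (hm : v ∉ movS g) :
    Module.finrank F (fixS (refl Q v * g)) + 1 = Module.finrank F (fixS g) := by
  have hg : g = refl Q v * (refl Q v * g) := by rw [← mul_assoc, refl_mul_self, one_mul]
  have hle : fixS (refl Q v * g) ≤ fixS g := fun x hx => by
    have h1 : app g x = app (refl Q v) x := by
      rw [hg, app_mul, mem_fixS.1 hx]
    rw [mem_fixS]
    by_contra hne
    apply hm
    rw [app_refl] at h1
    have hc : (Q v)⁻¹ * polar Q x v ≠ 0 := by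
      intro hc; exact hne (by rw [h1, hc, zero_smul, sub_zero])
    rw [mem_movS]
    refine ⟨((Q v)⁻¹ * polar Q x v)⁻¹ • x, ?_⟩
    rw [map_smul, h1, smul_sub, smul_smul, inv_mul_cancel₀ hc, one_smul]
    abel
  have hlt : fixS (refl Q v * g) < fixS g := by
    refine SetLike.lt_iff_le_and_exists.2 ⟨hle, ?_⟩
    by_contra hc
    push Not at hc
    apply hm
    rw [movS_eq hQ, LinearMap.BilinForm.mem_orthogonal_iff]
    intro x hx
    change polar Q x v = 0
    have h2 := mem_fixS.1 (hc x hx)
    rw [app_mul, mem_fixS.1 hx, app_refl, sub_eq_self, smul_eq_zero] at h2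
    rcases h2 with h2 | h2
    · simpa [hv] using h2
    · exact absurd (by rw [h2, QuadraticMap.map_zero]) hv
  refine le_antisymm (Submodule.finrank_lt_finrank_of_lt hlt) ?_
  have := finrank_fix_le (refl Q v * g) v
  rwa [← hg] at this

/-! ### Generation by reflections -/

/-- the subgroup generated by reflections -/
noncomputable def reflClosure (Q : QuadraticForm F (ι → F)) : Subgroup (O Q) :=
  Subgroup.closure (Set.range (refl Q))

theorem refl_mem (v : ι → F) : refl Q v ∈ reflClosure Q := Subgroup.subset_closure ⟨v, rfl⟩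

include hQ in
/-- the only obstruction to generation by reflections is `|F| = 2` in dimension `4` -/
theorem eich_mem_reflClosure (h : (∃ p : F, p ≠ 0 ∧ p ≠ 1) ∨ Fintype.card ι ≠ 4)
    {u v : ι → F} (hu : Q u = 0) (hv : Q v = 0) (huv : polar Q u v = 0) :
    eich Q u v ∈ reflClosure Q := by
  classical
  rcases eq_or_ne u 0 with rfl | hu0
  · convert (reflClosure Q).one_mem
    exact ext_app fun x => by simp [app_eich hu huv, hv]
  by_cases hspan : v ∈ Submodule.span F {u}
  · obtain ⟨t, rfl⟩ := Submodule.mem_span_singleton.1 hspan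
    rw [eich_smul_self hu]; exact Subgroup.one_mem _
  suffices ∃ a, polar Q u a = 0 ∧ Q a ≠ 0 ∧ Q (v - a) ≠ 0 by
    obtain ⟨a, hua, ha, hva⟩ := this
    have hua' : polar Q u (v - a) = 0 := by rw [polar_sub_right, huv, hua, sub_self]
    rw [← add_sub_cancel a v, ← eich_add hu hua hua', eich_eq_refl_mul hu hua ha,
      eich_eq_refl_mul hu hua' hva]
    exact mul_mem (mul_mem (refl_mem _) (refl_mem _)) (mul_mem (refl_mem _) (refl_mem _))
  have hQsub : ∀ a, Q (v - a) = Q a - polar Q v a := fun a => by
    rw [sub_eq_add_neg v, QuadraticMap.map_add ⇑Q, hv, QuadraticMap.map_neg, polar_neg_right]; ring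
  let W : Submodule F (ι → F) := Submodule.span F {u} ⊔ Submodule.span F {v}
  have hW : Module.finrank F W = 2 := by
    have hv0 : v ≠ 0 := fun hv0 => hspan (hv0 ▸ Submodule.zero_mem _)
    have hinf : Submodule.span F {u} ⊓ Submodule.span F {v} = ⊥ := by
      rw [eq_bot_iff]
      rintro x ⟨hxu, hxv⟩
      obtain ⟨t, rfl⟩ := Submodule.mem_span_singleton.1 hxv
      rcases eq_or_ne t 0 with rfl | ht
      · simp
      · exact absurd (by simpa [smul_smul, inv_mul_cancel₀ ht] using
          Submodule.smul_mem _ t⁻¹ hxu) hspan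
    have := Submodule.finrank_sup_add_finrank_inf_eq (Submodule.span F {u}) (Submodule.span F {v})
    rw [hinf, finrank_span_singleton hu0, finrank_span_singleton hv0, finrank_bot] at this
    omega
  have hWts : ∀ w ∈ W, Q w = 0 := by
    intro w hw
    obtain ⟨x, hx, y, hy, rfl⟩ := Submodule.mem_sup.1 hw
    obtain ⟨s, rfl⟩ := Submodule.mem_span_singleton.1 hx
    obtain ⟨t, rfl⟩ := Submodule.mem_span_singleton.1 hy
    simp [QuadraticMap.map_add ⇑Q, QuadraticMap.map_smul, polar_smul_left, polar_smul_right,
      hu, hv, huv]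
  have h4 := two_finrank_le hQ hWts
  by_cases hn : 5 ≤ Fintype.card ι
  · -- an anisotropic vector orthogonal to `u` and `v`
    obtain ⟨a, ha, haQ⟩ : ∃ a ∈ LinearMap.BilinForm.orthogonal Q.polarBilin W, Q a ≠ 0 := by
      by_contra hc
      push Not at hc
      have := two_finrank_le hQ hc
      rw [LinearMap.BilinForm.finrank_orthogonal hQ, Module.finrank_fintype_fun_eq_card, hW] at this
      omega
    rw [LinearMap.BilinForm.mem_orthogonal_iff] at ha
    have hua : polar Q u a = 0 := ha u (Submodule.mem_sup_left (Submodule.mem_span_singleton_self u))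
    have hva : polar Q v a = 0 := ha v (Submodule.mem_sup_right (Submodule.mem_span_singleton_self v))
    exact ⟨a, hua, haQ, by rw [hQsub, hva, sub_zero]; exact haQ⟩
  · obtain ⟨p, hp0, hp1⟩ := h.resolve_right (by omega)
    obtain ⟨a, hua, hva⟩ := exists_polar_eq_zero_one hQ hspan
    refine ⟨a + (p - Q a) • v, by simp [polar_add_right, polar_smul_right, hua, huv], ?_, ?_⟩
    · simpa [QuadraticMap.map_add ⇑Q, QuadraticMap.map_smul, polar_smul_right, hv,
        polar_comm (f := ⇑Q) a v, hva] using hp0
    · rw [hQsub]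
      have hvv : polar Q v v = 0 := by rw [polar_self', hv, mul_zero]
      simp only [QuadraticMap.map_add ⇑Q, QuadraticMap.map_smul, polar_smul_right, hv,
        polar_comm (f := ⇑Q) a v, hva, polar_add_right, hvv, smul_eq_mul]
      intro hh
      exact hp1 (by linear_combination hh)

include hQ in
/-- one step towards generation: the obstruction only occurs with a totally singular plane -/
theorem mem_reflClosure (h : ∀ u v : ι → F, Q u = 0 → Q v = 0 → polar Q u v = 0 →
    eich Q u v ∈ reflClosure Q) (g : O Q) : g ∈ reflClosure Q := by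
  classical
  induction hk : Fintype.card ι - Module.finrank F (fixS g) using Nat.strong_induction_on
    generalizing g with
  | _ k IH =>
  subst hk
  by_cases hts : ∃ v ∈ movS g, Q v ≠ 0
  · obtain ⟨v, hm, hv⟩ := hts
    have h1 := finrank_fix_of_mem hQ hv hm
    have h2 : Module.finrank F (fixS (refl Q v * g)) ≤ Fintype.card ι :=
      (Submodule.finrank_le _).trans (le_of_eq (Module.finrank_fintype_fun_eq_card F))
    have := IH _ (by omega) (refl Q v * g) rfl
    rw [show g = refl Q v * (refl Q v * g) by rw [← mul_assoc, refl_mul_self, one_mul]]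
    exact mul_mem (refl_mem v) this
  push Not at hts
  by_cases hall : ∀ a, app g a = a
  · rw [show g = 1 from ext_app fun x => by rw [hall x, app_one]]
    exact Subgroup.one_mem _
  push Not at hall
  obtain ⟨a, ha⟩ := hall
  have hanot : a ∉ LinearMap.BilinForm.orthogonal Q.polarBilin (movS g) := by
    rw [← fixS_eq hQ, mem_fixS]; exact ha
  rw [LinearMap.BilinForm.mem_orthogonal_iff] at hanot
  push Not at hanot
  obtain ⟨u, hu, hua⟩ := hanot
  replace hua : polar Q a u ≠ 0 := by rw [polar_comm]; exact hua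
  have hvm : a - app g a ∈ movS g := mem_movS.2 ⟨a, rfl⟩
  have hav : polar Q a (a - app g a) = 0 := by rw [← Q_mov, hts _ hvm]
  set v := a - app g a with hvdef
  set w := (-(polar Q a u)⁻¹) • v with hwdef
  have hw : w ∈ movS g := Submodule.smul_mem _ _ hvm
  have huw : polar Q u w = 0 := by
    simp [QuadraticMap.polar, hts u hu, hts w hw, hts _ ((movS g).add_mem hu hw)]
  have hQw : Q w = 0 := hts w hw
  have hha : app (eich Q u w) a = app g a := by
    rw [app_eich (hts u hu) huw, hQw, hwdef, polar_smul_right, hav, smul_smul]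
    simp [mul_neg, mul_inv_cancel₀ hua, hvdef]
  have hfix : ∀ x ∈ fixS g, app (eich Q u w) x = x := fun x hx => by
    rw [app_eich (hts u hu) huw, polar_fix_mov hx hu, polar_fix_mov hx hw]
    simp
  have hlt : fixS g < fixS ((eich Q u w)⁻¹ * g) := by
    refine SetLike.lt_iff_le_and_exists.2 ⟨fun x hx => ?_, a, ?_, by rwa [mem_fixS]⟩
    · rw [mem_fixS, app_mul, mem_fixS.1 hx]
      conv_lhs => rw [← hfix x hx, app_inv_app]
    · rw [mem_fixS, app_mul, ← hha, app_inv_app]
  have h2 : Module.finrank F (fixS ((eich Q u w)⁻¹ * g)) ≤ Fintype.card ι :=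
    (Submodule.finrank_le _).trans (le_of_eq (Module.finrank_fintype_fun_eq_card F))
  have h3 := Submodule.finrank_lt_finrank_of_lt hlt
  have := IH _ (by omega) ((eich Q u w)⁻¹ * g) rfl
  rw [show g = eich Q u w * ((eich Q u w)⁻¹ * g) by rw [mul_inv_cancel_left]]
  exact mul_mem (h u w (hts u hu) hQw huw) this

include hQ in
theorem reflClosure_eq_top (h : (∃ p : F, p ≠ 0 ∧ p ≠ 1) ∨ Fintype.card ι ≠ 4) :
    reflClosure Q = ⊤ :=
  (Subgroup.eq_top_iff' _).2 fun g =>
    mem_reflClosure hQ (fun _ _ hu hv huv => eich_mem_reflClosure hQ h hu hv huv) g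

/-- the sign of the determinant -/
theorem det_eq_one_or (hQ : Q.polarBilin.Nondegenerate) (g : O Q) :
    detHom Q g = 1 ∨ detHom Q g = -1 := by
  classical
  let M : Matrix ι ι F := Matrix.of fun i j => polar Q (Pi.single i 1) (Pi.single j 1)
  have hbil : ∀ x y : ι → F, polar Q x y = x ⬝ᵥ (M *ᵥ y) := fun x y => by
    rw [← polarVec_dotProduct Q x y, dotProduct_comm, dotProduct_mulVec, dotProduct_comm y]
    congr 1
    ext j
    rw [show (x ᵥ* M) j = ∑ i, x i * M i j from rfl, Cfsg.polarVec, polar_comm,
      ← polarVec_dotProduct Q (Pi.single j 1) x]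
    exact Finset.sum_congr rfl fun i _ => by
      simp only [Cfsg.polarVec, M, Matrix.of_apply]; rw [polar_comm, mul_comm]
  set A : Matrix ι ι F := ((g : Matrix.GeneralLinearGroup ι F) : Matrix ι ι F)
  have hA : Aᵀ * M * A = M := by
    ext i j
    have h1 := hbil (app g (Pi.single i 1)) (app g (Pi.single j 1))
    rw [polar_app, hbil (Pi.single i 1)] at h1
    simp only [app_apply] at h1
    simp only [Matrix.mulVec_single_one] at h1
    simp only [single_dotProduct, one_mul] at h1
    rw [show (Aᵀ * M * A) i j = (fun k => A k i) ⬝ᵥ (M *ᵥ fun k => A k j) by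
      rw [Matrix.mul_assoc]; rfl]
    exact h1.symm
  have hM : M.det ≠ 0 := by
    rw [Ne, ← Matrix.exists_mulVec_eq_zero_iff]
    rintro ⟨y, hy0, hy⟩
    exact hy0 (eq_zero_of_polar hQ fun x => by rw [polar_comm, hbil, hy, dotProduct_zero])
  have h1 := congrArg Matrix.det hA
  rw [Matrix.det_mul, Matrix.det_mul, Matrix.det_transpose] at h1
  have h2 : (A.det - 1) * (A.det + 1) = 0 := by
    have h3 : M.det * ((A.det - 1) * (A.det + 1)) = 0 := by linear_combination h1
    exact (mul_eq_zero.1 h3).resolve_left hM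
  rcases mul_eq_zero.1 h2 with h | h
  · exact Or.inl (Units.ext (sub_eq_zero.1 h))
  · exact Or.inr (Units.ext (by rw [Units.val_neg, Units.val_one]; exact eq_neg_of_add_eq_zero_left h))

end CfsgLib.Orth
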