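/-
The Dickson invariant and the abelianisation of a finite orthogonal group in characteristic two.
-/
import Cfsg.Agent.Lib.Orth.Basic

set_option autoImplicit false
set_option linter.unusedSectionVars false

namespace CfsgLib.Orth

open Matrix QuadraticMap

variable {ι : Type} [Fintype ι] [DecidableEq ι] {F : Type*} [Field F] {Q : QuadraticForm F (ι → F)}

/-- the Dickson invariant: parity of the codimension of the fixed space -/
noncomputable def dickson (g : O Q) : ℤˣ :=
  (-1) ^ (Fintype.card ι - Module.finrank F (fixS g))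

theorem finrank_fix_le_card (g : O Q) : Module.finrank F (fixS g) ≤ Fintype.card ι :=
  (Submodule.finrank_le _).trans (le_of_eq (Module.finrank_fintype_fun_eq_card F))

theorem dickson_one : dickson (1 : O Q) = 1 := by
  have h : fixS (1 : O Q) = ⊤ := eq_top_iff.2 fun x _ => mem_fixS.2 (app_one x)
  rw [dickson, h, finrank_top, Module.finrank_fintype_fun_eq_card, Nat.sub_self, pow_zero]

theorem dickson_refl_mul (hQ : Q.polarBilin.Nondegenerate) {v : ι → F} (hv : Q v ≠ 0) (g : O Q) :
    dickson (refl Q v * g) = -dickson g := by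
  have h1 := finrank_fix_le_card g
  have h2 := finrank_fix_le_card (refl Q v * g)
  simp only [dickson]
  by_cases hm : v ∈ movS g
  · have h := finrank_fix_of_mem hQ hv hm
    rw [show Fintype.card ι - Module.finrank F (fixS g) =
      (Fintype.card ι - Module.finrank F (fixS (refl Q v * g))) + 1 by omega, pow_succ]
    simp
  · have h := finrank_fix_of_not_mem hQ hv hm
    rw [show Fintype.card ι - Module.finrank F (fixS (refl Q v * g)) =
      (Fintype.card ι - Module.finrank F (fixS g)) + 1 by omega, pow_succ]
    simp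

/-- the Dickson invariant as a homomorphism, when reflections generate -/
noncomputable def dicksonHom (hQ : Q.polarBilin.Nondegenerate) (hgen : reflClosure Q = ⊤) :
    O Q →* ℤˣ where
  toFun := dickson
  map_one' := dickson_one
  map_mul' g h := by
    have key : ∀ h', dickson (g * h') = dickson g * dickson h' := by
      have hg : g ∈ reflClosure Q := by rw [hgen]; trivial
      induction hg using Subgroup.closure_induction_left with
      | one => intro h'; rw [one_mul, dickson_one, one_mul]
      | mul_left x hx y _ ih =>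
        intro h'
        obtain ⟨v, rfl⟩ := hx
        rcases eq_or_ne (Q v) 0 with hv | hv
        · simp [refl_eq_one hv, ih h']
        · rw [mul_assoc, dickson_refl_mul hQ hv, ih, dickson_refl_mul hQ hv, neg_mul]
      | inv_mul_cancel x hx y _ ih =>
        intro h'
        obtain ⟨v, rfl⟩ := hx
        rcases eq_or_ne (Q v) 0 with hv | hv
        · simp [refl_eq_one hv, ih h']
        · rw [refl_inv, mul_assoc, dickson_refl_mul hQ hv, ih, dickson_refl_mul hQ hv, neg_mul]
    exact key h

theorem dicksonHom_refl (hQ : Q.polarBilin.Nondegenerate) (hgen : reflClosure Q = ⊤) {v : ι → F}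
    (hv : Q v ≠ 0) : dicksonHom hQ hgen (refl Q v) = -1 := by
  change dickson (refl Q v) = -1
  rw [← mul_one (refl Q v), dickson_refl_mul hQ hv, dickson_one]

theorem exists_anisotropic (hQ : Q.polarBilin.Nondegenerate) (hn : 1 ≤ Fintype.card ι) :
    ∃ v, Q v ≠ 0 := by
  by_contra hall
  push Not at hall
  have := two_finrank_le hQ (W := ⊤) fun w _ => hall w
  rw [finrank_top, Module.finrank_fintype_fun_eq_card] at this
  omega

/-- in characteristic two over a finite field all reflections are conjugate -/
theorem conj_char_two [Fintype F] [CharP F 2] (hQ : Q.polarBilin.Nondegenerate) {u v : ι → F}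
    (hu : Q u ≠ 0) (hv : Q v ≠ 0) : ∃ g : O Q, g * refl Q u * g⁻¹ = refl Q v := by
  have h2 : (2 : F) = 0 := CharTwo.two_eq_zero
  obtain ⟨t, ht⟩ := FiniteField.isSquare_of_char_two (ringChar.eq_iff.2 inferInstance) (Q u / Q v)
  have ht0 : t ≠ 0 := fun h => div_ne_zero hu hv (by rw [ht, h, mul_zero])
  rw [← refl_smul (Q := Q) ht0 v]
  have hw : Q (t • v) = Q u := by
    rw [QuadraticMap.map_smul, smul_eq_mul, ← ht, div_mul_cancel₀ _ hv]
  set w := t • v
  have hneg : ∀ x : ι → F, -x = x := fun x => funext fun i => CharTwo.neg_eq (x i)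
  by_cases hf : polar Q u w = 0
  · -- `u + w` is singular and orthogonal to both
    set z := u - w with hzdef
    have hz : Q z = 0 := by
      rw [hzdef, sub_eq_add_neg, QuadraticMap.map_add ⇑Q, QuadraticMap.map_neg, polar_neg_right,
        hf, hw]
      linear_combination Q u * h2
    by_cases hz0 : z = 0
    · exact ⟨1, by rw [one_mul, inv_one, mul_one, sub_eq_zero.1 hz0]⟩
    have hzu : polar Q z u = 0 := by
      rw [hzdef, polar_sub_left, polar_self', polar_comm (f := ⇑Q) w u, hf]
      linear_combination Q u * h2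
    have hind : u ∉ Submodule.span F {z} := by
      intro h
      obtain ⟨s, hs⟩ := Submodule.mem_span_singleton.1 h
      exact hu (by rw [← hs, QuadraticMap.map_smul, hz, smul_zero])
    obtain ⟨a, hza, hua⟩ := exists_polar_eq_zero_one hQ hind
    refine ⟨eich Q z a, ?_⟩
    have happ : app (eich Q z a) u = w := by
      rw [app_eich hz hza, polar_comm (f := ⇑Q) u z, hzu, hua, hzdef]
      module
    rw [refl_conj, happ]
  · refine ⟨refl Q (u + w), ?_⟩
    have hQ' : Q (u + w) = polar Q u w := by
      rw [QuadraticMap.map_add ⇑Q, hw]; linear_combination Q u * h2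
    have happ : app (refl Q (u + w)) u = w := by
      have hval : (Q (u + w))⁻¹ * polar Q u (u + w) = 1 := by
        rw [hQ', polar_add_right, polar_self', h2, zero_mul, zero_add, inv_mul_cancel₀ hf]
      rw [app_refl, hval, one_smul, sub_add_cancel_left, hneg]
    rw [refl_conj, happ]

/-- the commutator subgroup is the kernel of the Dickson invariant -/
theorem commutator_eq_ker_dickson [Fintype F] [CharP F 2] (hQ : Q.polarBilin.Nondegenerate)
    (hgen : reflClosure Q = ⊤) : commutator (O Q) = (dicksonHom hQ hgen).ker := by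
  refine le_antisymm (Abelianization.commutator_subset_ker _) ?_
  set ψ := (Abelianization.of : O Q →* Abelianization (O Q))
  suffices key : ∀ g : O Q, (dickson g = 1 ∧ ψ g = 1) ∨
      (dickson g = -1 ∧ ∃ u, Q u ≠ 0 ∧ ψ g = ψ (refl Q u)) by
    intro g hg
    rw [← Abelianization.ker_of, MonoidHom.mem_ker]
    rcases key g with ⟨-, h⟩ | ⟨h, -⟩
    · exact h
    · rw [MonoidHom.mem_ker] at hg
      exact absurd (hg.symm.trans h) (by decide)
  have hsame : ∀ u v, Q u ≠ 0 → Q v ≠ 0 → ψ (refl Q v) = ψ (refl Q u) := fun u v hu hv => by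
    obtain ⟨c, hc⟩ := conj_char_two hQ hu hv
    rw [← hc, map_mul, map_mul, map_inv, mul_comm, inv_mul_cancel_left]
  have hinv : ∀ u, ψ (refl Q u) * ψ (refl Q u) = 1 := fun u => by
    rw [← map_mul, refl_mul_self, map_one]
  intro g
  have hg : g ∈ reflClosure Q := by rw [hgen]; trivial
  induction hg using Subgroup.closure_induction_left with
  | one => exact Or.inl ⟨dickson_one, map_one _⟩
  | mul_left x hx y _ ih =>
    obtain ⟨v, rfl⟩ := hx
    rcases eq_or_ne (Q v) 0 with hv | hv
    · rwa [refl_eq_one hv, one_mul]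
    rcases ih with ⟨h1, h2⟩ | ⟨h1, u, hu, h2⟩
    · exact Or.inr ⟨by rw [dickson_refl_mul hQ hv, h1], v, hv, by rw [map_mul, h2, mul_one]⟩
    · exact Or.inl ⟨by rw [dickson_refl_mul hQ hv, h1, neg_neg],
        by rw [map_mul, h2, hsame u v hu hv, hinv]⟩
  | inv_mul_cancel x hx y _ ih =>
    obtain ⟨v, rfl⟩ := hx
    rw [refl_inv]
    rcases eq_or_ne (Q v) 0 with hv | hv
    · rwa [refl_eq_one hv, one_mul]
    rcases ih with ⟨h1, h2⟩ | ⟨h1, u, hu, h2⟩
    · exact Or.inr ⟨by rw [dickson_refl_mul hQ hv, h1], v, hv, by rw [map_mul, h2, mul_one]⟩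
    · exact Or.inl ⟨by rw [dickson_refl_mul hQ hv, h1, neg_neg],
        by rw [map_mul, h2, hsame u v hu hv, hinv]⟩

theorem index_commutator_char_two [Fintype F] [CharP F 2] (hQ : Q.polarBilin.Nondegenerate)
    (hgen : reflClosure Q = ⊤) (hn : 1 ≤ Fintype.card ι) : (commutator (O Q)).index = 2 := by
  obtain ⟨v, hv⟩ := exists_anisotropic hQ hn
  have hsurj : Function.Surjective (dicksonHom hQ hgen) := fun e => by
    rcases Int.units_eq_one_or e with rfl | rfl
    · exact ⟨1, map_one _⟩
    · exact ⟨_, dicksonHom_refl hQ hgen hv⟩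
  rw [commutator_eq_ker_dickson hQ hgen, Subgroup.index_ker, MonoidHom.range_eq_top.2 hsurj,
    Subgroup.card_top, Nat.card_eq_fintype_card, Fintype.card_units_int]

end CfsgLib.Orth
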