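/-
The abelianisation of a finite orthogonal group: the sign character `χ_c` (permutation sign on `{Q = c}`),
the Dickson invariant, the index of the commutator subgroup and the index-2 subgroups of SO.
-/
import Cfsg.Agent.Lib.Orth.Basic

set_option autoImplicit false
set_option linter.unusedSectionVars false

namespace CfsgLib.Orth

open Matrix QuadraticMap

variable {ι : Type} [Fintype ι] [DecidableEq ι] {F : Type*} [Field F] [Fintype F] [DecidableEq F]
  {Q : QuadraticForm F (ι → F)}

/-- the vectors of value `c` -/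
abbrev Shell (Q : QuadraticForm F (ι → F)) (c : F) := {x : ι → F // Q x = c}

/-- the permutation of `{Q = c}` induced by an isometry -/
def shellPerm (Q : QuadraticForm F (ι → F)) (c : F) : O Q →* Equiv.Perm (Shell Q c) where
  toFun g :=
    { toFun := fun x => ⟨app g x.1, (Q_app g x.1).trans x.2⟩
      invFun := fun x => ⟨app g⁻¹ x.1, (Q_app g⁻¹ x.1).trans x.2⟩
      left_inv := fun x => Subtype.ext (app_inv_app g x.1)
      right_inv := fun x => Subtype.ext (app_app_inv g x.1) }
  map_one' := Equiv.ext fun x => Subtype.ext (app_one x.1)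
  map_mul' g h := Equiv.ext fun x => Subtype.ext (app_mul g h x.1)

/-- the spinor-type character: the sign of the action on `{Q = c}` -/
noncomputable def chi (Q : QuadraticForm F (ι → F)) (c : F) : O Q →* ℤˣ :=
  Equiv.Perm.sign.comp (shellPerm Q c)

theorem card_mod_two_of_involution {α : Type*} [Fintype α] [DecidableEq α] (τ : α → α)
    (h : ∀ a, τ (τ a) = a) (P : α → Prop) [DecidablePred P] (hfix : ∀ a, τ a = a ↔ P a) :
    Fintype.card α % 2 = (Finset.univ.filter P).card % 2 := by
  have h1 : ((Finset.univ.filter fun a => ¬ P a).card : ZMod 2) = 0 := by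
    rw [Finset.card_eq_sum_ones, Nat.cast_sum, Nat.cast_one]
    refine Finset.sum_involution (fun a _ => τ a) ?_ ?_ ?_ (fun a _ => h a)
    · intro a _; decide
    · intro a ha _ heq; exact (Finset.mem_filter.1 ha).2 ((hfix a).1 heq)
    · intro a ha
      refine Finset.mem_filter.2 ⟨Finset.mem_univ _, fun hP => ?_⟩
      have h2 := (hfix (τ a)).2 hP
      rw [h a] at h2
      rw [← h2] at hP
      exact (Finset.mem_filter.1 ha).2 hP
  rw [ZMod.natCast_eq_zero_iff_even, Nat.even_iff] at h1
  have := Finset.card_filter_add_card_filter_not (s := (Finset.univ : Finset α)) P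
  rw [Finset.card_univ] at this
  omega

/-- an arbitrary sign on `F`: exactly one of `t`, `-t` is positive for `t ≠ 0` -/
def IsPos (t : F) : Prop := Fintype.equivFin F t < Fintype.equivFin F (-t)

theorem isPos_or (h2 : (2 : F) ≠ 0) {t : F} (ht : t ≠ 0) : IsPos t ∨ IsPos (-t) := by
  have hne : t ≠ -t := fun h => by
    have : 2 * t = 0 := by linear_combination h
    simp [h2, ht] at this
  rcases lt_or_gt_of_ne ((Fintype.equivFin F).injective.ne hne) with h | h
  · exact Or.inl h
  · exact Or.inr (by rw [IsPos, neg_neg]; exact h)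

theorem not_isPos_neg {t : F} (h : IsPos t) : ¬ IsPos (-t) := by
  rw [IsPos] at h ⊢; rw [neg_neg]; exact lt_asymm h

theorem chi_refl (h2 : (2 : F) ≠ 0) {v : ι → F} (hv : Q v ≠ 0) {c : F} (hc : c ≠ 0) :
    chi Q c (refl Q v) = if IsSquare (c * Q v) then -1 else 1 := by
  classical
  set σ := shellPerm Q c (refl Q v) with hσdef
  have hσ2 : σ ^ 2 = 1 := by rw [pow_two, hσdef, ← map_mul, refl_mul_self, map_one]
  have hσv : ∀ x : Shell Q c, (σ x).1 = app (refl Q v) x.1 := fun x => rfl
  have hne : ∀ x : Shell Q c, σ x ≠ x ↔ polar Q x.1 v ≠ 0 := fun x => by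
    rw [not_iff_not]
    constructor
    · intro h
      have h' := congrArg Subtype.val h
      rw [hσv, app_refl, sub_eq_self, smul_eq_zero] at h'
      rcases h' with h' | h'
      · simpa [hv] using h'
      · exact absurd (by rw [h', QuadraticMap.map_zero]) hv
    · exact fun h => Subtype.ext (app_refl_of_ortho h)
  let f : Shell Q c → F := fun x => polar Q x.1 v
  have hfσ : ∀ x, f (σ x) = -f x := fun x => by
    change polar Q (σ x).1 v = _
    rw [hσv]
    conv_lhs => rw [← polar_app (refl Q v), app_refl_self hv, polar_neg_right]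
    rw [← app_mul, refl_mul_self, app_one]
  -- the moved points come in two halves
  let Mp := Finset.univ.filter fun x : Shell Q c => f x ≠ 0 ∧ IsPos (f x)
  have hσσ : ∀ x, σ (σ x) = x := fun x => by
    rw [← Equiv.Perm.mul_apply, ← pow_two, hσ2, Equiv.Perm.one_apply]
  have hsupp : σ.support.card = 2 * Mp.card := by
    have e1 : σ.support = Mp ∪ Mp.map σ.toEmbedding := by
      ext x
      simp only [Equiv.Perm.mem_support, hne, Finset.mem_union, Mp, Finset.mem_filter,
        Finset.mem_univ, true_and, Finset.mem_map, Equiv.coe_toEmbedding]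
      constructor
      · intro hx
        rcases isPos_or h2 hx with h | h
        · exact Or.inl ⟨hx, h⟩
        · exact Or.inr ⟨σ x, ⟨by rw [hfσ]; exact neg_ne_zero.2 hx, by rw [hfσ]; exact h⟩, hσσ x⟩
      · rintro (⟨hx, -⟩ | ⟨y, ⟨hy, -⟩, rfl⟩)
        · exact hx
        · show f (σ y) ≠ 0
          rw [hfσ]; exact neg_ne_zero.2 hy
    rw [e1, Finset.card_union_of_disjoint, Finset.card_map]
    · omega
    rw [Finset.disjoint_left]
    intro x hx hx'
    obtain ⟨y, hy, rfl⟩ := Finset.mem_map.1 hx'
    simp only [Mp, Finset.mem_filter, Equiv.coe_toEmbedding, hfσ] at hx hy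
    exact not_isPos_neg hy.2.2 hx.2.2
  -- the parity of one half
  let τ : {x : Shell Q c // f x ≠ 0 ∧ IsPos (f x)} → {x : Shell Q c // f x ≠ 0 ∧ IsPos (f x)} :=
    fun x => ⟨⟨-(σ x.1).1, (QuadraticMap.map_neg Q _).trans (σ x.1).2⟩, by
      have : f ⟨-(σ x.1).1, (QuadraticMap.map_neg Q _).trans (σ x.1).2⟩ = f x.1 := by
        change polar Q (-(σ x.1).1) v = _
        rw [polar_neg_left]
        have := hfσ x.1
        simp only [f] at this ⊢
        rw [this, neg_neg]
      rw [this]; exact x.2⟩
  have hττ : ∀ x, τ (τ x) = x := fun x => Subtype.ext (Subtype.ext (by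
    simp only [τ, hσv, map_neg, neg_neg, ← app_mul, refl_mul_self, app_one]))
  have hfixτ : ∀ x, τ x = x ↔ x.1.1 ∈ Submodule.span F {v} := fun x => by
    rw [Subtype.ext_iff, Subtype.ext_iff]
    simp only [τ, hσv, app_refl]
    constructor
    · intro h
      rw [Submodule.mem_span_singleton]
      refine ⟨2⁻¹ * ((Q v)⁻¹ * polar Q x.1.1 v), ?_⟩
      rw [← smul_smul]
      have h' : ((Q v)⁻¹ * polar Q x.1.1 v) • v = (2 : F) • x.1.1 := by
        rw [two_smul]
        nth_rewrite 3 [← h]
        abel
      rw [h', smul_smul, inv_mul_cancel₀ h2, one_smul]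
    · intro h
      obtain ⟨t, ht⟩ := Submodule.mem_span_singleton.1 h
      rw [← ht, polar_smul_left, polar_self', smul_eq_mul,
        show (Q v)⁻¹ * (t * (2 * Q v)) = 2 * t by field_simp]
      module
  have hcard := card_mod_two_of_involution τ hττ (fun x => x.1.1 ∈ Submodule.span F {v}) hfixτ
  rw [Fintype.card_subtype] at hcard
  have hfixcard : (Finset.univ.filter fun x : {x : Shell Q c // f x ≠ 0 ∧ IsPos (f x)} =>
      x.1.1 ∈ Submodule.span F {v}).card = if IsSquare (c * Q v) then 1 else 0 := by
    have hval : ∀ t : F, Q (t • v) = c ↔ t * t * Q v = c := fun t => by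
      rw [QuadraticMap.map_smul, smul_eq_mul]
    split_ifs with hsq
    · obtain ⟨r, hr⟩ := hsq
      set t := r / Q v with htdef
      have ht : t * t * Q v = c := by
        rw [htdef]; field_simp; linear_combination -hr
      have ht0 : t ≠ 0 := fun h => hc (by rw [← ht, h, mul_zero, zero_mul])
      have hft : ∀ s : F, Q (s • v) = c → polar Q (s • v) v = 2 * Q v * s := fun s _ => by
        rw [polar_smul_left, polar_self', smul_eq_mul]; ring
      rw [Finset.card_eq_one]
      obtain ⟨s, hs, hspos⟩ : ∃ s : F, s * s * Q v = c ∧ IsPos (2 * Q v * s) := by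
        rcases isPos_or h2 (mul_ne_zero (mul_ne_zero h2 hv) ht0) with h | h
        · exact ⟨t, ht, h⟩
        · exact ⟨-t, by rw [← ht]; ring, by rw [show 2 * Q v * -t = -(2 * Q v * t) by ring]; exact h⟩
      have hs0 : s ≠ 0 := fun h => hc (by rw [← hs, h, mul_zero, zero_mul])
      refine ⟨⟨⟨s • v, (hval s).2 hs⟩, ?_, ?_⟩, ?_⟩
      · show polar Q (s • v) v ≠ 0
        rw [hft s ((hval s).2 hs)]
        exact mul_ne_zero (mul_ne_zero h2 hv) hs0
      · show IsPos (polar Q (s • v) v)
        rw [hft s ((hval s).2 hs)]; exact hspos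
      ext x
      simp only [Finset.mem_filter, Finset.mem_univ, true_and, Finset.mem_singleton]
      constructor
      · intro hx
        obtain ⟨r', hr'⟩ := Submodule.mem_span_singleton.1 hx
        have hrc : r' * r' * Q v = c := (hval r').1 (hr' ▸ x.1.2)
        have hsq2 : r' = s ∨ r' = -s := by
          have h' : (r' - s) * (r' + s) * Q v = 0 := by linear_combination hrc - hs
          rcases mul_eq_zero.1 ((mul_eq_zero.1 h').resolve_right hv) with h | h
          · exact Or.inl (sub_eq_zero.1 h)
          · exact Or.inr (eq_neg_of_add_eq_zero_left h)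
        refine Subtype.ext (Subtype.ext ?_)
        rw [← hr']
        rcases hsq2 with rfl | rfl
        · rfl
        · exfalso
          have hp : IsPos (polar Q (-s • v) v) := hr' ▸ x.2.2
          rw [hft _ (hr' ▸ x.1.2), show 2 * Q v * -s = -(2 * Q v * s) by ring] at hp
          exact not_isPos_neg hspos hp
      · rintro rfl
        exact Submodule.mem_span_singleton.2 ⟨s, rfl⟩
    · rw [Finset.card_eq_zero, Finset.filter_eq_empty_iff]
      intro x _ hx
      obtain ⟨r', hr'⟩ := Submodule.mem_span_singleton.1 hx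
      have hrc : r' * r' * Q v = c := (hval r').1 (hr' ▸ x.1.2)
      exact hsq ⟨r' * Q v, by rw [← hrc]; ring⟩
  rw [hfixcard] at hcard
  change Equiv.Perm.sign σ = _
  have hfp := Equiv.Perm.card_fixedPoints σ
  have hcd : (Fintype.card (Shell Q c) - Fintype.card ↑(Function.fixedPoints σ)) = σ.support.card := by
    have := Equiv.Perm.sum_cycleType σ
    have := Finset.card_le_univ σ.support
    omega
  rw [Equiv.Perm.sign_of_pow_two_eq_one hσ2, hcd, hsupp, Nat.mul_div_cancel_left _ two_pos]
  change Mp.card % 2 = _ at hcard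
  split_ifs with hsq
  · rw [if_pos hsq] at hcard
    exact (Nat.odd_iff.2 hcard).neg_one_pow
  · rw [if_neg hsq] at hcard
    exact (Nat.even_iff.2 hcard).neg_one_pow

/-- reflections in vectors of equal value are conjugate -/
theorem conj_of_eq_value (h2 : (2 : F) ≠ 0) {u v : ι → F} (hu : Q u ≠ 0) (huv : Q u = Q v) :
    ∃ g : O Q, g * refl Q u * g⁻¹ = refl Q v := by
  have hsum : Q (u - v) + Q (u + v) = 4 * Q u := by
    rw [sub_eq_add_neg u v, QuadraticMap.map_add ⇑Q u (-v), QuadraticMap.map_add ⇑Q u v,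
      QuadraticMap.map_neg, polar_neg_right, ← huv]
    ring
  have h4 : 4 * Q u ≠ 0 := mul_ne_zero (by
    rw [show (4 : F) = 2 * 2 by norm_num]; exact mul_ne_zero h2 h2) hu
  rcases eq_or_ne (Q (u - v)) 0 with h | h
  · have hp : Q (u + v) ≠ 0 := by intro h'; rw [h, h', add_zero] at hsum; exact h4 hsum.symm
    refine ⟨refl Q (u + v), ?_⟩
    have : app (refl Q (u + v)) u = -v := by
      have hval : (Q (u + v))⁻¹ * polar Q u (u + v) = 1 := by
        rw [inv_mul_eq_one₀ hp, polar_add_right, polar_self', QuadraticMap.map_add ⇑Q u v, ← huv]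
        ring
      rw [app_refl, hval, one_smul]; abel
    rw [refl_conj, this, refl_neg]
  · refine ⟨refl Q (u - v), ?_⟩
    have : app (refl Q (u - v)) u = v := by
      have hval : (Q (u - v))⁻¹ * polar Q u (u - v) = 1 := by
        rw [inv_mul_eq_one₀ h, polar_sub_right, polar_self', sub_eq_add_neg u v,
          QuadraticMap.map_add ⇑Q u (-v), QuadraticMap.map_neg, polar_neg_right, ← huv]
        ring
      rw [app_refl, hval, one_smul]; abel
    rw [refl_conj, this]

theorem pair_mem_commutator {g : O Q} {u v : ι → F} (h : g * refl Q u * g⁻¹ = refl Q v) :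
    refl Q u * refl Q v ∈ commutatorSet (O Q) := by
  refine ⟨refl Q u, g, ?_⟩
  rw [← h, commutatorElement_def, refl_inv]
  group

/-- a product of two reflections with the same value is the square of an isometry of determinant one -/
theorem pair_is_square (h2 : (2 : F) ≠ 0) {u v : ι → F} (hu : Q u ≠ 0) (huv : Q u = Q v) :
    ∃ w, Q w ≠ 0 ∧ (refl Q u * refl Q w) * (refl Q u * refl Q w) = refl Q u * refl Q v := by
  have key : ∀ v' : ι → F, Q u = Q v' → Q (u + v') ≠ 0 →
      (refl Q u * refl Q (u + v')) * (refl Q u * refl Q (u + v')) = refl Q u * refl Q v' := by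
    intro v' hv' hw
    have hval : (Q (u + v'))⁻¹ * polar Q u (u + v') = 1 := by
      rw [inv_mul_eq_one₀ hw, polar_add_right, polar_self', QuadraticMap.map_add ⇑Q u v', ← hv']
      ring
    have happ : app (refl Q (u + v')) u = -v' := by
      rw [app_refl, hval, one_smul]; abel
    have := refl_conj (refl Q (u + v')) u
    rw [refl_inv, happ, refl_neg] at this
    rw [← this]; group
  by_cases h : Q (u + v) = 0
  · refine ⟨u + -v, ?_, ?_⟩
    · rw [QuadraticMap.map_add ⇑Q, QuadraticMap.map_neg, polar_neg_right, ← huv]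
      rw [QuadraticMap.map_add ⇑Q, ← huv] at h
      intro h'
      apply mul_ne_zero (mul_ne_zero h2 h2) hu
      linear_combination h + h'
    · rw [key (-v) (by rw [QuadraticMap.map_neg, huv]) ?_, refl_neg]
      rw [QuadraticMap.map_add ⇑Q, QuadraticMap.map_neg, polar_neg_right, ← huv]
      rw [QuadraticMap.map_add ⇑Q, ← huv] at h
      intro h'
      apply mul_ne_zero (mul_ne_zero h2 h2) hu
      linear_combination h + h'
  · exact ⟨u + v, h, key v huv h⟩

section odd

variable (hQ : Q.polarBilin.Nondegenerate) (h2 : (2 : F) ≠ 0)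
include hQ h2

theorem odd_gen : reflClosure Q = ⊤ :=
  reflClosure_eq_top hQ (Or.inl ⟨-1, by simp, fun h => h2 (by linear_combination (-1 : F) * h)⟩)

theorem odd_induction {P : O Q → Prop} (g : O Q) (h1 : P 1)
    (hmul : ∀ v g, Q v ≠ 0 → P g → P (refl Q v * g)) : P g := by
  have hg : g ∈ reflClosure Q := by rw [odd_gen hQ h2]; trivial
  induction hg using Subgroup.closure_induction_left with
  | one => exact h1
  | mul_left x hx y _ ih =>
    obtain ⟨v, rfl⟩ := hx
    rcases eq_or_ne (Q v) 0 with h | h
    · rwa [refl_eq_one h, one_mul]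
    · exact hmul v y h ih
  | inv_mul_cancel x hx y _ ih =>
    obtain ⟨v, rfl⟩ := hx
    rw [refl_inv]
    rcases eq_or_ne (Q v) 0 with h | h
    · rwa [refl_eq_one h, one_mul]
    · exact hmul v y h ih

/-- every value is taken in dimension at least two -/
theorem exists_value (hn : 2 ≤ Fintype.card ι) (c : F) : ∃ x, x ≠ 0 ∧ Q x = c ∨ c = 0 := by
  classical
  rcases eq_or_ne c 0 with rfl | hc
  · exact ⟨0, Or.inr rfl⟩
  obtain ⟨v, hv⟩ : ∃ v, Q v ≠ 0 := by
    by_contra hall
    push Not at hall
    have := two_finrank_le hQ (W := ⊤) fun w _ => hall w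
    rw [finrank_top, Module.finrank_fintype_fun_eq_card] at this
    omega
  obtain ⟨w, hvw, hw⟩ : ∃ w, polar Q v w = 0 ∧ Q w ≠ 0 := by
    by_contra hall
    push Not at hall
    have := two_finrank_le hQ (W := LinearMap.BilinForm.orthogonal Q.polarBilin (Submodule.span F {v}))
      fun x hx => hall x (LinearMap.BilinForm.mem_orthogonal_iff.1 hx v (Submodule.mem_span_singleton_self v))
    rw [LinearMap.BilinForm.finrank_orthogonal hQ, Module.finrank_fintype_fun_eq_card,
      finrank_span_singleton (fun h => hv (by rw [h, QuadraticMap.map_zero]))] at this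
    -- so `n - 1 ≤ n / 2`, hence `n = 2` and `v^⊥` is a singular line
    have hn2 : Fintype.card ι = 2 := by omega
    set W := LinearMap.BilinForm.orthogonal Q.polarBilin (Submodule.span F {v}) with hW
    have hWd : Module.finrank F W = 1 := by
      rw [hW, LinearMap.BilinForm.finrank_orthogonal hQ, Module.finrank_fintype_fun_eq_card,
        finrank_span_singleton (fun h => hv (by rw [h, QuadraticMap.map_zero])), hn2]
    obtain ⟨⟨w, hwm⟩, hw0, hwspan⟩ := finrank_eq_one_iff'.1 hWd
    have hvw : polar Q v w = 0 :=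
      LinearMap.BilinForm.mem_orthogonal_iff.1 hwm v (Submodule.mem_span_singleton_self v)
    have hQw := hall w hvw
    have hww : polar Q w w = 0 := by rw [polar_self', hQw, mul_zero]
    apply hw0
    refine Subtype.ext (eq_zero_of_polar hQ fun y => ?_)
    -- `w` is orthogonal to `v` and to `v^⊥`
    have hsum := LinearMap.BilinForm.span_singleton_sup_orthogonal_eq_top (B := Q.polarBilin) (x := v)
      (by rw [polarBilin_apply_apply, polar_self']; exact mul_ne_zero h2 hv)
    have hy : y ∈ (Submodule.span F {v} ⊔ W) := by rw [hW, hsum]; trivial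
    obtain ⟨p, hp, r, hr, rfl⟩ := Submodule.mem_sup.1 hy
    obtain ⟨s, rfl⟩ := Submodule.mem_span_singleton.1 hp
    obtain ⟨t, ht⟩ := hwspan ⟨r, hr⟩
    have ht' : t • w = r := congrArg Subtype.val ht
    simp [← ht', polar_add_right, polar_smul_right, polar_comm (f := ⇑Q) w v, hvw, hww]
  obtain ⟨a, b, hab⟩ := FiniteField.exists_root_sum_quadratic
    (f := Polynomial.C (Q v) * Polynomial.X ^ 2 - Polynomial.C c)
    (g := Polynomial.C (Q w) * Polynomial.X ^ 2)
    (by
      rw [sub_eq_add_neg, ← map_neg Polynomial.C, Polynomial.degree_add_C (by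
        rw [Polynomial.degree_C_mul_X_pow 2 hv]; norm_num), Polynomial.degree_C_mul_X_pow 2 hv]
      rfl)
    (by rw [Polynomial.degree_C_mul_X_pow 2 hw]; rfl)
    (Nat.odd_iff.1 (Nat.odd_iff.2 (FiniteField.odd_card_of_char_ne_two (by
      intro hch
      have : CharP F 2 := ringChar.of_eq hch
      exact h2 (CharTwo.two_eq_zero)))))
  simp only [Polynomial.eval_sub, Polynomial.eval_mul, Polynomial.eval_C, Polynomial.eval_pow,
    Polynomial.eval_X] at hab
  refine ⟨a • v + b • w, Or.inl ⟨?_, ?_⟩⟩ <;>
    have hQab : Q (a • v + b • w) = c := by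
      simp only [QuadraticMap.map_add ⇑Q, QuadraticMap.map_smul, polar_smul_left, polar_smul_right,
        hvw, smul_eq_mul]
      linear_combination hab
  · intro h; rw [h, QuadraticMap.map_zero] at hQab; exact hc hQab.symm
  · exact hQab

theorem exists_value_ne (hn : 2 ≤ Fintype.card ι) {c : F} (hc : c ≠ 0) : ∃ x, Q x = c := by
  obtain ⟨x, h | h⟩ := exists_value hQ h2 hn c
  · exact ⟨x, h.2⟩
  · exact absurd h hc

end odd

section two

/-- the two characters `(χ_1, χ_d)`, `d` a non-square -/
noncomputable def chiPair (Q : QuadraticForm F (ι → F)) (d : F) : O Q →* ℤˣ × ℤˣ :=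
  (chi Q 1).prod (chi Q d)

variable (hQ : Q.polarBilin.Nondegenerate) (h2 : (2 : F) ≠ 0) {d : F} (hd : ¬ IsSquare d)

include h2 hd

theorem ne_zero_of_not_isSquare : d ≠ 0 := fun h => hd (h ▸ IsSquare.zero)

theorem chiPair_refl {v : ι → F} (hv : Q v ≠ 0) :
    chiPair Q d (refl Q v) = if IsSquare (Q v) then (-1, 1) else (1, -1) := by
  classical
  have hd0 := ne_zero_of_not_isSquare h2 hd
  rw [chiPair, MonoidHom.prod_apply, chi_refl h2 hv one_ne_zero, chi_refl h2 hv hd0]
  have hchar : ringChar F ≠ 2 := fun hch => by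
    have : CharP F 2 := ringChar.of_eq hch
    exact h2 CharTwo.two_eq_zero
  simp only [one_mul]
  by_cases hs : IsSquare (Q v)
  · have : ¬ IsSquare (d * Q v) := fun h => hd (by
      simpa [mul_div_assoc, div_self hv] using h.div hs)
    simp [hs, this]
  · have : IsSquare (d * Q v) := by
      rw [← quadraticChar_one_iff_isSquare (mul_ne_zero hd0 hv), map_mul,
        quadraticChar_neg_one_iff_not_isSquare.2 hd, quadraticChar_neg_one_iff_not_isSquare.2 hs]
      norm_num
    simp [hs, this]

include hQ

theorem detHom_eq (g : O Q) :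
    detHom Q g = Units.map (Int.castRingHom F).toMonoidHom (chi Q 1 g * chi Q d g) := by
  induction g using odd_induction hQ h2 with
  | h1 => simp
  | hmul v g hv ih =>
    have h := chiPair_refl h2 hd hv
    rw [chiPair, MonoidHom.prod_apply] at h
    rw [map_mul, map_mul (chi Q 1), map_mul (chi Q d), detHom_refl hv, ih,
      mul_mul_mul_comm, map_mul (Units.map _)]
    split_ifs at h <;> simp only [Prod.mk.injEq] at h <;> rw [h.1, h.2] <;> ext <;> simp

theorem chiPair_surjective (hn : 2 ≤ Fintype.card ι) : Function.Surjective (chiPair Q d) := by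
  obtain ⟨u, hu⟩ := exists_value_ne hQ h2 hn (one_ne_zero : (1 : F) ≠ 0)
  obtain ⟨v, hv⟩ := exists_value_ne hQ h2 hn (ne_zero_of_not_isSquare h2 hd)
  have hA := chiPair_refl h2 hd (v := u) (by rw [hu]; exact one_ne_zero)
  have hB := chiPair_refl h2 hd (v := v) (by rw [hv]; exact ne_zero_of_not_isSquare h2 hd)
  rw [if_pos (by rw [hu]; exact IsSquare.one)] at hA
  rw [if_neg (by rw [hv]; exact hd)] at hB
  rintro ⟨a, b⟩
  rcases Int.units_eq_one_or a with rfl | rfl <;> rcases Int.units_eq_one_or b with rfl | rfl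
  · exact ⟨1, map_one _⟩
  · exact ⟨_, hB⟩
  · exact ⟨_, hA⟩
  · exact ⟨refl Q u * refl Q v, by rw [map_mul, hA, hB]; simp⟩

/-- any normal subgroup containing the products of two reflections of equal value contains the kernel of
`(χ_1, χ_d)` -/
theorem ker_chiPair_le (N : Subgroup (O Q)) [N.Normal]
    (hN : ∀ u v, Q u ≠ 0 → Q u = Q v → refl Q u * refl Q v ∈ N) :
    (chiPair Q d).ker ≤ N := by
  classical
  let ψ := QuotientGroup.mk' N
  have hd0 := ne_zero_of_not_isSquare h2 hd
  have hchar : ringChar F ≠ 2 := fun hch => by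
    have : CharP F 2 := ringChar.of_eq hch
    exact h2 CharTwo.two_eq_zero
  have hinvol : ∀ u, ψ (refl Q u) * ψ (refl Q u) = 1 := fun u => by
    rw [← map_mul, refl_mul_self, map_one]
  have hval : ∀ u v, Q u ≠ 0 → Q u = Q v → ψ (refl Q u) = ψ (refl Q v) := fun u v hu huv => by
    have h : ψ (refl Q u * refl Q v) = 1 := (QuotientGroup.eq_one_iff _).2 (hN u v hu huv)
    rw [map_mul] at h
    exact (eq_of_div_eq_one (by rw [div_eq_mul_inv, ← map_inv, refl_inv]; exact h))
  have hclass : ∀ u v, Q u ≠ 0 → Q v ≠ 0 → (IsSquare (Q u) ↔ IsSquare (Q v)) →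
      ψ (refl Q u) = ψ (refl Q v) := fun u v hu hv huv => by
    obtain ⟨t, ht⟩ : IsSquare (Q u * Q v) := by
      by_cases hs : IsSquare (Q u)
      · exact hs.mul (huv.1 hs)
      · rw [← quadraticChar_one_iff_isSquare (mul_ne_zero hu hv), map_mul,
          quadraticChar_neg_one_iff_not_isSquare.2 hs,
          quadraticChar_neg_one_iff_not_isSquare.2 (mt huv.2 hs)]
        norm_num
    have ht0 : t ≠ 0 := fun h => mul_ne_zero hu hv (by rw [ht, h, mul_zero])
    rw [← refl_smul (Q := Q) (div_ne_zero ht0 hv) v]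
    refine hval u _ hu ?_
    rw [QuadraticMap.map_smul, smul_eq_mul]
    field_simp
    linear_combination ht
  -- commutativity
  have hcomm : ∀ u v, Q u ≠ 0 → Q v ≠ 0 → ψ (refl Q u) * ψ (refl Q v) = ψ (refl Q v) * ψ (refl Q u) := by
    intro u v hu hv
    have h1 : ψ (refl Q u * refl Q v * (refl Q u)⁻¹) = ψ (refl Q v) := by
      rw [refl_conj]; exact hval _ _ (by rw [Q_app]; exact hv) (Q_app _ _)
    rw [map_mul, map_mul, map_inv, mul_inv_eq_iff_eq_mul] at h1
    exact h1
  -- representatives
  have key : ∀ g : O Q, ∃ a b : O Q, (a = 1 ∨ ∃ u, Q u ≠ 0 ∧ IsSquare (Q u) ∧ a = refl Q u) ∧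
      (b = 1 ∨ ∃ u, Q u ≠ 0 ∧ ¬ IsSquare (Q u) ∧ b = refl Q u) ∧ ψ g = ψ a * ψ b ∧
      chiPair Q d g = chiPair Q d a * chiPair Q d b := by
    intro g
    induction g using odd_induction hQ h2 with
    | h1 => exact ⟨1, 1, Or.inl rfl, Or.inl rfl, by simp, by simp⟩
    | hmul v g hv ih =>
      obtain ⟨a, b, ha, hb, hg, hg'⟩ := ih
      by_cases hs : IsSquare (Q v)
      · rcases ha with rfl | ⟨u, hu, hus, rfl⟩
        · exact ⟨refl Q v, b, Or.inr ⟨v, hv, hs, rfl⟩, hb, by simp [hg], by simp [hg']⟩
        · refine ⟨1, b, Or.inl rfl, hb, ?_, ?_⟩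
          · rw [map_mul, hg, ← mul_assoc, hclass v u hv hu (iff_of_true hs hus), hinvol, map_one]
          · rw [map_mul, hg', ← mul_assoc, chiPair_refl h2 hd hv, chiPair_refl h2 hd hu, if_pos hs,
              if_pos hus, map_one]
            simp
      · rcases hb with rfl | ⟨u, hu, hus, rfl⟩
        · refine ⟨a, refl Q v, ha, Or.inr ⟨v, hv, hs, rfl⟩, ?_, ?_⟩
          · rw [map_mul, hg, map_one, mul_one]
            rcases ha with rfl | ⟨u, hu, -, rfl⟩
            · simp
            · exact hcomm v u hv hu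
          · rw [map_mul, hg', map_one, mul_one, mul_comm]
        · refine ⟨a, 1, ha, Or.inl rfl, ?_, ?_⟩
          · rw [map_mul, hg, map_one, mul_one]
            rcases ha with rfl | ⟨w, hw, -, rfl⟩
            · rw [map_one, one_mul, hclass v u hv hu (iff_of_false hs hus), hinvol]
            · rw [← mul_assoc, hcomm v w hv hw, mul_assoc, hclass v u hv hu (iff_of_false hs hus),
                hinvol, mul_one]
          · rw [map_mul, hg', map_one, mul_one, mul_left_comm, chiPair_refl h2 hd hv,
              chiPair_refl h2 hd hu, if_neg hs, if_neg hus]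
            simp
  intro g hg
  obtain ⟨a, b, ha, hb, hgN, hg'⟩ := key g
  rw [MonoidHom.mem_ker] at hg
  rw [hg] at hg'
  rw [← QuotientGroup.eq_one_iff]
  change ψ g = 1
  rcases ha with rfl | ⟨u, hu, hus, rfl⟩ <;> rcases hb with rfl | ⟨w, hw, hws, rfl⟩
  · simpa using hgN
  · rw [map_one, one_mul, chiPair_refl h2 hd hw, if_neg hws] at hg'
    exact absurd hg' (by decide)
  · rw [map_one, mul_one, chiPair_refl h2 hd hu, if_pos hus] at hg'
    exact absurd hg' (by decide)
  · rw [chiPair_refl h2 hd hu, if_pos hus, chiPair_refl h2 hd hw, if_neg hws] at hg'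
    exact absurd hg' (by decide)

theorem commutator_eq : commutator (O Q) = (chiPair Q d).ker := by
  refine le_antisymm (Abelianization.commutator_subset_ker _) (ker_chiPair_le hQ h2 hd _ ?_)
  intro u v hu huv
  obtain ⟨g, hg⟩ := conj_of_eq_value h2 hu huv
  rw [commutator_eq_closure]
  exact Subgroup.subset_closure (pair_mem_commutator hg)

theorem index_commutator (hn : 2 ≤ Fintype.card ι) : (commutator (O Q)).index = 4 := by
  rw [commutator_eq hQ h2 hd, Subgroup.index_ker,
    MonoidHom.range_eq_top.2 (chiPair_surjective hQ h2 hd hn), Subgroup.card_top,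
    Nat.card_eq_fintype_card]
  rfl

end two

end CfsgLib.Orth
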