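/-
Subgroups of index two in `O` and `SO`, and the reflection subgroup of one square class.
-/
import Cfsg.Agent.Lib.Orth.Omega
import Cfsg.Agent.Lib.Orth.CharTwo

set_option autoImplicit false
set_option linter.unusedSectionVars false

namespace CfsgLib.Orth

open Matrix QuadraticMap

variable {ι : Type} [Fintype ι] [DecidableEq ι] {F : Type*} [Field F] [Fintype F] [DecidableEq F]
  {Q : QuadraticForm F (ι → F)}

/-- the determinant-one isometries -/
abbrev SO (Q : QuadraticForm F (ι → F)) : Subgroup (O Q) := Cfsg.specialIsometryGroup F ⇑Q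

theorem mem_SO {g : O Q} : g ∈ SO Q ↔ detHom Q g = 1 := MonoidHom.mem_ker

theorem eq_of_le_of_index_eq {G : Type*} [Group G] {K H : Subgroup G} (h : K ≤ H)
    (hi : K.index = H.index) (h0 : H.index ≠ 0) : H = K := by
  refine le_antisymm ?_ h
  rw [← Subgroup.relIndex_eq_one]
  have := Subgroup.relIndex_mul_index h
  rw [hi] at this
  exact (mul_eq_right₀ h0).1 this

section odd

variable (hQ : Q.polarBilin.Nondegenerate) (h2 : (2 : F) ≠ 0) (hn : 2 ≤ Fintype.card ι)
  {d : F} (hd : ¬ IsSquare d)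
include hQ h2 hd

theorem chiPair_eq_one_of_SO {g : O Q} (hg : g ∈ SO Q) (h1 : chi Q 1 g = 1) :
    g ∈ (chiPair Q d).ker := by
  rw [mem_SO, detHom_eq hQ h2 hd, h1, one_mul] at hg
  rw [MonoidHom.mem_ker, chiPair, MonoidHom.prod_apply, h1, Prod.mk_eq_one]
  refine ⟨rfl, ?_⟩
  rcases Int.units_eq_one_or (chi Q d g) with h | h
  · exact h
  · rw [h] at hg
    have : (-1 : F) = 1 := by simpa using congrArg Units.val hg
    exact absurd (by linear_combination -this) h2

include hn

theorem index_chi_SO : ((chi Q 1).comp (SO Q).subtype).ker.index = 2 := by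
  have hsurj : Function.Surjective ((chi Q 1).comp (SO Q).subtype) := fun e => by
    rcases Int.units_eq_one_or e with rfl | rfl
    · exact ⟨1, map_one _⟩
    · obtain ⟨g, hg⟩ := chiPair_surjective hQ h2 hd hn (-1, -1)
      rw [chiPair, MonoidHom.prod_apply, Prod.mk.injEq] at hg
      exact ⟨⟨g, mem_SO.2 (by rw [detHom_eq hQ h2 hd, hg.1, hg.2]; simp)⟩, hg.1⟩
  rw [Subgroup.index_ker, MonoidHom.range_eq_top.2 hsurj, Subgroup.card_top,
    Nat.card_eq_fintype_card, Fintype.card_units_int]

theorem SO_index_two_unique {H : Subgroup (SO Q)} (hH : H.index = 2) :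
    H = ((chi Q 1).comp (SO Q).subtype).ker := by
  have hmul : ∀ {u v : ι → F}, Q u ≠ 0 → Q v ≠ 0 → refl Q u * refl Q v ∈ SO Q := fun hu hv =>
    mem_SO.2 (by rw [map_mul, detHom_refl hu, detHom_refl hv]; simp)
  let K : Subgroup (O Q) := Subgroup.normalClosure
    {g | ∃ u v, Q u ≠ 0 ∧ Q u = Q v ∧ g = refl Q u * refl Q v}
  have hK : K ≤ H.map (SO Q).subtype := by
    refine (Subgroup.closure_le _).2 ?_
    intro x hx
    obtain ⟨y, ⟨u, v, hu, huv, rfl⟩, hy⟩ := Group.mem_conjugatesOfSet_iff.1 hx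
    obtain ⟨g, rfl⟩ := isConj_iff.1 hy
    obtain ⟨w, hw, hsq⟩ := pair_is_square h2 (u := app g u) (v := app g v) (by rwa [Q_app])
      (by rw [Q_app, Q_app, huv])
    have hxe : g * (refl Q u * refl Q v) * g⁻¹ = refl Q (app g u) * refl Q (app g v) := by
      rw [← refl_conj, ← refl_conj]; group
    rw [hxe, ← hsq]
    exact ⟨⟨_, hmul (by rwa [Q_app]) hw⟩ * ⟨_, hmul (by rwa [Q_app]) hw⟩,
      Subgroup.mul_self_mem_of_index_two hH _, rfl⟩
  have hker := ker_chiPair_le hQ h2 hd K fun u v hu huv =>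
    Subgroup.subset_normalClosure ⟨u, v, hu, huv, rfl⟩
  refine eq_of_le_of_index_eq (fun g hg => ?_) ((index_chi_SO hQ h2 hn hd).trans hH.symm) (by omega)
  obtain ⟨g', hg', hgg'⟩ := hK (hker (chiPair_eq_one_of_SO hQ h2 hd g.2 hg))
  rwa [Subtype.ext hgg'] at hg'

/-- a subgroup of index two of `O` is the pullback of one of index two of `ℤˣ × ℤˣ` -/
theorem card_index_two : Nat.card {H : Subgroup (O Q) // H.index = 2} = 3 := by
  classical
  have hsurj := chiPair_surjective hQ h2 hd hn
  have e : {K : Subgroup (ℤˣ × ℤˣ) // K.index = 2} ≃ {H : Subgroup (O Q) // H.index = 2} :=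
    Equiv.ofBijective
      (fun K => ⟨K.1.comap (chiPair Q d), by rw [Subgroup.index_comap_of_surjective _ hsurj]; exact K.2⟩)
      ⟨fun a b h => Subtype.ext (Subgroup.comap_injective hsurj (congrArg Subtype.val h)),
       fun H => by
        have hle : (chiPair Q d).ker ≤ H.1 := by
          rw [← commutator_eq hQ h2 hd]
          have := Subgroup.normal_of_index_eq_two H.2
          rw [← QuotientGroup.ker_mk' H.1]
          have hc : Nat.card (O Q ⧸ H.1) = 2 := H.2
          have : Fact (Nat.Prime 2) := ⟨Nat.prime_two⟩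
          have : IsCyclic (O Q ⧸ H.1) := isCyclic_of_prime_card hc
          let := IsCyclic.commGroup (α := O Q ⧸ H.1)
          exact Abelianization.commutator_subset_ker _
        refine ⟨⟨H.1.map (chiPair Q d), ?_⟩, Subtype.ext (Subgroup.comap_map_eq_self hle)⟩
        rw [← Subgroup.index_comap_of_surjective _ hsurj, Subgroup.comap_map_eq_self hle]
        exact H.2⟩
  rw [← Nat.card_congr e]
  -- subgroups of index two of the four-group correspond to its non-trivial elements
  have hex : ∀ x : ℤˣ × ℤˣ, x ≠ 1 → (Subgroup.zpowers x).index = 2 := fun x hx => by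
    have h := (Subgroup.zpowers x).card_mul_index
    have h4 : Nat.card (ℤˣ × ℤˣ) = 4 := by rw [Nat.card_eq_fintype_card]; rfl
    have h2' : orderOf x = 2 :=
      orderOf_eq_prime ((by decide : ∀ y : ℤˣ × ℤˣ, y ^ 2 = 1) x) hx
    rw [Nat.card_zpowers, h2', h4] at h
    omega
  let f : {x : ℤˣ × ℤˣ // x ≠ 1} → {K : Subgroup (ℤˣ × ℤˣ) // K.index = 2} :=
    fun x => ⟨Subgroup.zpowers x.1, hex x.1 x.2⟩
  have hf : Function.Bijective f := by
    refine ⟨fun a b h => ?_, fun K => ?_⟩
    · have h1 : a.1 ∈ Subgroup.zpowers b.1 := by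
        rw [← show Subgroup.zpowers a.1 = Subgroup.zpowers b.1 from congrArg Subtype.val h]
        exact Subgroup.mem_zpowers _
      obtain ⟨k, hk⟩ := Subgroup.mem_zpowers_iff.1 h1
      have hb2 : b.1 ^ (2 : ℤ) = 1 := by
        have : ∀ x : ℤˣ × ℤˣ, x * x = 1 := by decide
        rw [show (2 : ℤ) = 1 + 1 by norm_num, _root_.zpow_add, _root_.zpow_one, this]
      refine Subtype.ext ?_
      rcases Int.even_or_odd' k with ⟨m, rfl | rfl⟩
      · rw [_root_.zpow_mul, hb2, _root_.one_zpow] at hk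
        exact absurd hk.symm a.2
      · rw [_root_.zpow_add, _root_.zpow_mul, hb2, _root_.one_zpow, one_mul, _root_.zpow_one] at hk
        exact hk.symm
    · have hc : Nat.card K.1 = 2 := by
        have h := K.1.card_mul_index
        rw [K.2, show Nat.card (ℤˣ × ℤˣ) = 4 by rw [Nat.card_eq_fintype_card]; rfl] at h
        omega
      obtain ⟨x, hx, hx1⟩ : ∃ x ∈ K.1, x ≠ 1 :=
        (Subgroup.bot_or_exists_ne_one K.1).resolve_left (fun h => by simp [h] at hc)
      refine ⟨⟨x, hx1⟩, Subtype.ext ?_⟩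
      exact (eq_of_le_of_index_eq (Subgroup.zpowers_le.2 hx) ((hex x hx1).trans K.2.symm) (by omega)).symm
  rw [← Nat.card_eq_of_bijective f hf, Nat.card_eq_fintype_card]
  rfl

end odd

end CfsgLib.Orth
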