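/-
When `-1` lies in `Ω`: the values of the spinor characters at `-1`.
-/
import Cfsg.Agent.Lib.Orth.Omega

set_option autoImplicit false
set_option linter.unusedSectionVars false

namespace CfsgLib.Orth

open Matrix QuadraticMap

variable {ι : Type} [Fintype ι] [DecidableEq ι] {F : Type*} [Field F]

/-- `Σ x_i y_i` as a quadratic form -/
noncomputable def plusQ (m : ℕ) (F : Type*) [Field F] : QuadraticForm F (Fin m ⊕ Fin m → F) :=
  ∑ i : Fin m, QuadraticMap.linMulLin (LinearMap.proj (R := F) (φ := fun _ => F) (Sum.inl i))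
    (LinearMap.proj (Sum.inr i))

theorem plusQ_coe (m : ℕ) : ⇑(plusQ m F) = Cfsg.quadFormPlus m F := by
  funext v
  simp [plusQ, Cfsg.quadFormPlus]

theorem polar_plusQ (m : ℕ) (x y : Fin m ⊕ Fin m → F) :
    polar (plusQ m F) x y = ∑ i, (x (Sum.inl i) * y (Sum.inr i) + x (Sum.inr i) * y (Sum.inl i)) := by
  rw [QuadraticMap.polar, plusQ_coe]
  simp only [Cfsg.quadFormPlus, Pi.add_apply, ← Finset.sum_sub_distrib]
  exact Finset.sum_congr rfl fun i _ => by ring

theorem plusQ_nondegenerate (m : ℕ) : (plusQ m F).polarBilin.Nondegenerate := by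
  have key : ∀ x, (∀ y, polar (plusQ m F) x y = 0) → x = 0 := fun x hx => funext fun j => by
    rcases j with i | i
    · have := hx (Pi.single (Sum.inr i) 1)
      simpa [polar_plusQ, Pi.single_apply, Finset.sum_add_distrib] using this
    · have := hx (Pi.single (Sum.inl i) 1)
      simpa [polar_plusQ, Pi.single_apply, Finset.sum_add_distrib] using this
  exact ⟨key, fun y hy => key y fun x => by rw [polar_comm]; exact hy x⟩

/-- the minus-type form as a quadratic form -/
noncomputable def minusQ (m : ℕ) (F : Type*) [Field F] (a b : F) :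
    QuadraticForm F ((Fin m ⊕ Fin m) ⊕ Fin 2 → F) :=
  (∑ i : Fin m, QuadraticMap.linMulLin (LinearMap.proj (R := F) (φ := fun _ => F) (Sum.inl (Sum.inl i)))
    (LinearMap.proj (Sum.inl (Sum.inr i))))
  + (QuadraticMap.linMulLin (LinearMap.proj (R := F) (φ := fun _ => F) (Sum.inr 0)) (LinearMap.proj (Sum.inr 0))
  + a • QuadraticMap.linMulLin (LinearMap.proj (R := F) (φ := fun _ => F) (Sum.inr 0)) (LinearMap.proj (Sum.inr 1))
  + b • QuadraticMap.linMulLin (LinearMap.proj (R := F) (φ := fun _ => F) (Sum.inr 1)) (LinearMap.proj (Sum.inr 1)))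

theorem minusQ_coe (m : ℕ) (a b : F) : ⇑(minusQ m F a b) = Cfsg.quadFormMinus m F a b := by
  funext v
  simp [minusQ, Cfsg.quadFormMinus]
  ring

theorem polar_minusQ (m : ℕ) (a b : F) (x y : (Fin m ⊕ Fin m) ⊕ Fin 2 → F) :
    polar (minusQ m F a b) x y =
      (∑ i, (x (.inl (.inl i)) * y (.inl (.inr i)) + x (.inl (.inr i)) * y (.inl (.inl i)))) +
      (2 * x (.inr 0) * y (.inr 0) + a * (x (.inr 0) * y (.inr 1) + x (.inr 1) * y (.inr 0))
        + 2 * b * x (.inr 1) * y (.inr 1)) := by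
  rw [QuadraticMap.polar, minusQ_coe]
  simp only [Cfsg.quadFormMinus, Pi.add_apply, add_mul, mul_add, Finset.sum_add_distrib]
  rw [Finset.sum_congr rfl fun i _ => mul_comm (y (Sum.inl (Sum.inl i))) (x (Sum.inl (Sum.inr i)))]
  ring

/-- the discriminant of an anisotropic binary form is minus a non-square -/
theorem not_isSquare_neg_disc (h2 : (2 : F) ≠ 0) {a b : F}
    (hab : ∀ z₁ z₂ : F, z₁ ^ 2 + a * z₁ * z₂ + b * z₂ ^ 2 = 0 → z₁ = 0 ∧ z₂ = 0) :
    ¬ IsSquare (-(b - a ^ 2 / 4)) := by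
  rintro ⟨r, hr⟩
  have h4 : (4 : F) ≠ 0 := by rw [show (4 : F) = 2 * 2 by norm_num]; exact mul_ne_zero h2 h2
  have := (hab (r - a / 2) 1 (by field_simp at hr ⊢; linear_combination -hr)).2
  exact one_ne_zero this

theorem minusQ_nondegenerate (h2 : (2 : F) ≠ 0) {m : ℕ} {a b : F}
    (hab : ∀ z₁ z₂ : F, z₁ ^ 2 + a * z₁ * z₂ + b * z₂ ^ 2 = 0 → z₁ = 0 ∧ z₂ = 0) :
    (minusQ m F a b).polarBilin.Nondegenerate := by
  have h4 : (4 : F) ≠ 0 := by rw [show (4 : F) = 2 * 2 by norm_num]; exact mul_ne_zero h2 h2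
  have hd : 4 * b - a ^ 2 ≠ 0 := fun h => not_isSquare_neg_disc h2 hab ⟨0, by
    field_simp; linear_combination -h⟩
  have key : ∀ x, (∀ y, polar (minusQ m F a b) x y = 0) → x = 0 := fun x hx => funext fun j => by
    have e0 : 2 * x (.inr 0) + a * x (.inr 1) = 0 := by
      have := hx (Pi.single (Sum.inr 0) 1)
      simpa [polar_minusQ, Pi.single_apply] using this
    have e1 : a * x (.inr 0) + 2 * b * x (.inr 1) = 0 := by
      have := hx (Pi.single (Sum.inr 1) 1)
      simpa [polar_minusQ, Pi.single_apply] using this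
    rcases j with (i | i) | k
    · have := hx (Pi.single (Sum.inl (Sum.inr i)) 1)
      simpa [polar_minusQ, Pi.single_apply, Finset.sum_add_distrib] using this
    · have := hx (Pi.single (Sum.inl (Sum.inl i)) 1)
      simpa [polar_minusQ, Pi.single_apply, Finset.sum_add_distrib] using this
    · fin_cases k
      · exact (mul_eq_zero.1 (show x (.inr 0) * (4 * b - a ^ 2) = 0 by
          linear_combination (2 * b) * e0 - a * e1)).resolve_right hd
      · exact (mul_eq_zero.1 (show x (.inr 1) * (4 * b - a ^ 2) = 0 by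
          linear_combination 2 * e1 - a * e0)).resolve_right hd
  exact ⟨key, fun y hy => key y fun x => by rw [polar_comm]; exact hy x⟩

variable [Fintype F] [DecidableEq F] {Q : QuadraticForm F (ι → F)}

theorem exists_neg_on {κ : Type*} [DecidableEq κ] (v : κ → ι → F) (hv : ∀ i, Q (v i) ≠ 0)
    (ho : ∀ i j, i ≠ j → polar Q (v i) (v j) = 0) (d : F) (s : Finset κ) :
    ∃ g : O Q, (∀ i ∈ s, app g (v i) = -v i) ∧
      (∀ x, (∀ i ∈ s, polar Q x (v i) = 0) → app g x = x) ∧
      chiPair Q d g = ∏ i ∈ s, chiPair Q d (refl Q (v i)) := by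
  induction s using Finset.induction_on with
  | empty => exact ⟨1, by simp, by simp, by simp⟩
  | insert i s hi ih =>
    obtain ⟨g, hg, hg', hgc⟩ := ih
    refine ⟨refl Q (v i) * g, fun j hj => ?_, fun x hx => ?_, ?_⟩
    · rcases Finset.mem_insert.1 hj with rfl | hj'
      · rw [app_mul, hg' _ fun k hk => ho _ _ (by rintro rfl; exact hi hk), app_refl_self (hv _)]
      · rw [app_mul, hg j hj', map_neg,
          app_refl_of_ortho (ho j i (fun h => hi (h ▸ hj')))]
    · rw [app_mul, hg' x fun k hk => hx k (Finset.mem_insert_of_mem hk),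
        app_refl_of_ortho (hx i (Finset.mem_insert_self i s))]
    · rw [map_mul, hgc, Finset.prod_insert hi]

/-- whether `-1` lies in `Ω`, from an orthogonal basis -/
theorem neg_one_mem_iff (hQ : Q.polarBilin.Nondegenerate) (h2 : (2 : F) ≠ 0) {d : F}
    (hd : ¬ IsSquare d) {κ : Type*} [Fintype κ] [DecidableEq κ] (v : κ → ι → F)
    (hv : ∀ i, Q (v i) ≠ 0) (ho : ∀ i j, i ≠ j → polar Q (v i) (v j) = 0)
    (hcard : Fintype.card κ = Fintype.card ι) :
    (∃ g : O Q, g ∈ commutator (O Q) ∧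
      ((g : Matrix.GeneralLinearGroup ι F) : Matrix ι ι F) = -1) ↔
    ∏ i, (if IsSquare (Q (v i)) then ((-1 : ℤˣ), (1 : ℤˣ)) else (1, -1)) = 1 := by
  obtain ⟨g, hg, -, hgc⟩ := exists_neg_on v hv ho d Finset.univ
  have hli : LinearIndependent F v := by
    refine LinearMap.BilinForm.linearIndependent_of_iIsOrtho (B := Q.polarBilin)
      (LinearMap.BilinForm.iIsOrtho_def.2 fun i j hij => ho i j hij) fun i => ?_
    change ¬ polar Q (v i) (v i) = 0
    rw [polar_self']
    exact mul_ne_zero h2 (hv i)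
  have hspan := hli.span_eq_top_of_card_eq_finrank'
    (by rw [hcard, Module.finrank_fintype_fun_eq_card])
  have happ : app g = -LinearMap.id := LinearMap.ext_on_range hspan fun i => hg i (Finset.mem_univ i)
  have hmat : ((g : Matrix.GeneralLinearGroup ι F) : Matrix ι ι F) = -1 :=
    Matrix.ext_of_mulVec_single fun i => by
      rw [← app_apply, happ, Matrix.neg_mulVec, Matrix.one_mulVec]; rfl
  rw [Finset.prod_congr rfl fun i _ => chiPair_refl h2 hd (hv i)] at hgc
  rw [← hgc, commutator_eq hQ h2 hd, ← MonoidHom.mem_ker]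
  exact ⟨fun ⟨g', hg', hm⟩ => by rwa [show g = g' from Subtype.ext (Units.ext (hmat.trans hm.symm))],
    fun h => ⟨g, h, hmat⟩⟩

end CfsgLib.Orth
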