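/-
Maximal totally singular subspaces of hyperbolic quadratic spaces: the two families, and the extensions of a
next-to-maximal one.
-/
import Cfsg.Agent.Lib.Orth.NegOne
import Cfsg.Agent.Lib.Forms.Witt
import Cfsg.Agent.S0752

set_option autoImplicit false
set_option linter.unusedSectionVars false

namespace CfsgLib.Orth

open Matrix QuadraticMap

variable {F V : Type*} [Field F] [AddCommGroup V] [Module F V] [FiniteDimensional F V]

theorem ts_polar_eq_zero (Q : QuadraticForm F V) {U : Submodule F V} (hU : ∀ u ∈ U, Q u = 0) {x y : V}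
    (hx : x ∈ U) (hy : y ∈ U) : polar Q x y = 0 := by
  simp [QuadraticMap.polar, hU x hx, hU y hy, hU _ (U.add_mem hx hy)]

theorem polar_orth_sup (Q : QuadraticForm F V) (A B : Submodule F V) :
    LinearMap.BilinForm.orthogonal Q.polarBilin (A ⊔ B) =
      LinearMap.BilinForm.orthogonal Q.polarBilin A ⊓ LinearMap.BilinForm.orthogonal Q.polarBilin B := by
  refine le_antisymm (le_inf (LinearMap.BilinForm.orthogonal_le le_sup_left)
    (LinearMap.BilinForm.orthogonal_le le_sup_right)) fun x hx n hn => ?_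
  obtain ⟨a, ha, b, hb, rfl⟩ := Submodule.mem_sup.1 hn
  change polar Q (a + b) x = 0
  have ha' : polar Q a x = 0 := (Submodule.mem_inf.1 hx).1 a ha
  have hb' : polar Q b x = 0 := (Submodule.mem_inf.1 hx).2 b hb
  rw [polar_add_left, ha', hb', add_zero]

theorem polarBilin_refl (Q : QuadraticForm F V) : LinearMap.IsRefl Q.polarBilin := fun x y h => by
  rw [polarBilin_apply_apply] at h ⊢; rwa [polar_comm]

theorem ts_max_orth (Q : QuadraticForm F V) (hQ : Q.polarBilin.Nondegenerate) {m : ℕ}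
    (hm : Module.finrank F V = 2 * m) {U : Submodule F V} (hU : ∀ u ∈ U, Q u = 0)
    (hd : Module.finrank F U = m) : LinearMap.BilinForm.orthogonal Q.polarBilin U = U := by
  refine (Submodule.eq_of_le_of_finrank_eq
    (show U ≤ LinearMap.BilinForm.orthogonal Q.polarBilin U from fun x hx n hn => ts_polar_eq_zero Q hU hn hx)
    ?_).symm
  rw [LinearMap.BilinForm.finrank_orthogonal hQ, hm, hd]
  omega

/-- the rank of an alternating form is even -/
theorem alt_even_corank {W : Type*} [AddCommGroup W] [Module F W] [FiniteDimensional F W]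
    (β : LinearMap.BilinForm F W) (hβ : β.IsAlt) :
    Even (Module.finrank F W - Module.finrank F (LinearMap.ker β)) := by
  obtain ⟨C, hC⟩ := (LinearMap.ker β).exists_isCompl
  obtain ⟨m, k, b, -, -, -, h4⟩ := Cfsg.Agent.S0752.result (β.restrict C) (fun x => hβ.self_eq_zero (x : W))
  have hk : k = 0 := by
    by_contra hk
    let j : Fin k := ⟨0, Nat.pos_of_ne_zero hk⟩
    refine b.ne_zero (Sum.inr j) (Subtype.ext ?_)
    have hker : ((b (Sum.inr j) : C) : W) ∈ LinearMap.ker β := by
      refine LinearMap.ext fun v => ?_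
      obtain ⟨r, hr, c, hc, rfl⟩ := Submodule.mem_sup.1
        (show v ∈ LinearMap.ker β ⊔ C by rw [hC.sup_eq_top]; trivial)
      have h1 : β (b (Sum.inr j) : W) c = 0 := h4 j ⟨c, hc⟩
      have h2 : β (b (Sum.inr j) : W) r = 0 :=
        hβ.isRefl r _ (by rw [LinearMap.mem_ker.1 hr, LinearMap.zero_apply])
      simp [h1, h2]
    exact (Submodule.disjoint_def.1 hC.disjoint _ hker (b (Sum.inr j)).2)
  have hdim := Submodule.finrank_add_eq_of_isCompl hC
  rw [Module.finrank_eq_card_basis b] at hdim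
  simp [hk] at hdim
  exact ⟨m, by omega⟩

theorem lagrangian_parity (Q : QuadraticForm F V) (hQ : Q.polarBilin.Nondegenerate) {m : ℕ}
    (hm : Module.finrank F V = 2 * m) {U W X : Submodule F V}
    (hU : ∀ u ∈ U, Q u = 0) (hW : ∀ u ∈ W, Q u = 0) (hX : ∀ u ∈ X, Q u = 0)
    (dU : Module.finrank F U = m) (dW : Module.finrank F W = m) (dX : Module.finrank F X = m) :
    Even ((m - Module.finrank F ↥(U ⊓ W)) + (m - Module.finrank F ↥(W ⊓ X)) +
      (m - Module.finrank F ↥(U ⊓ X))) := by
  have oU := ts_max_orth Q hQ hm hU dU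
  have oW := ts_max_orth Q hQ hm hW dW
  have oX := ts_max_orth Q hQ hm hX dX
  set K := U ⊓ W with hKdef
  have hKperp : LinearMap.BilinForm.orthogonal Q.polarBilin K = U ⊔ W := by
    rw [← LinearMap.BilinForm.orthogonal_orthogonal hQ (polarBilin_refl Q) (U ⊔ W), polar_orth_sup, oU, oW]
  set X₀ := X ⊓ (U ⊔ W) with hX₀
  have hX₀perp : LinearMap.BilinForm.orthogonal Q.polarBilin X₀ = X ⊔ K := by
    rw [← LinearMap.BilinForm.orthogonal_orthogonal hQ (polarBilin_refl Q) (X ⊔ K), polar_orth_sup, oX,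
      hKperp]
  let L : (U × W) →ₗ[F] V := U.subtype.coprod W.subtype
  let P : Submodule F (U × W) := Submodule.comap L X
  have hP : ∀ p : P, ((p.1.1 : V) + (p.1.2 : V)) ∈ X := fun p => p.2
  let β : LinearMap.BilinForm F P :=
    (Q.polarBilin.compl₁₂ ((U.subtype.comp (LinearMap.fst F U W)).comp P.subtype)
      ((W.subtype.comp (LinearMap.snd F U W)).comp P.subtype))
  have hβapp : ∀ p p' : P, β p p' = polar Q (p.1.1 : V) (p'.1.2 : V) := fun _ _ => rfl
  have hβ : β.IsAlt := fun p => by
    rw [hβapp]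
    have h := hX _ (hP p)
    rwa [QuadraticMap.map_add ⇑Q, hU _ p.1.1.2, hW _ p.1.2.2, zero_add, zero_add] at h
  -- the range of `L`
  have hL : Submodule.map L P = X₀ := by
    rw [Submodule.map_comap_eq, LinearMap.range_coprod, Submodule.range_subtype, Submodule.range_subtype,
      hX₀, inf_comm]
  have hPker : Module.finrank F (LinearMap.ker (L.comp P.subtype)) = Module.finrank F K := by
    have e : K ≃ₗ[F] LinearMap.ker (L.comp P.subtype) :=
      { toFun := fun x => ⟨⟨(⟨x.1, x.2.1⟩, -⟨x.1, x.2.2⟩), by simp [P, L]⟩, by simp [L]⟩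
        map_add' := fun x y => by
          refine Subtype.ext (Subtype.ext (Prod.ext (Subtype.ext rfl) (Subtype.ext ?_)))
          simp; abel
        map_smul' := fun c x => by
          refine Subtype.ext (Subtype.ext (Prod.ext (Subtype.ext rfl) (Subtype.ext ?_)))
          simp
        invFun := fun p => ⟨p.1.1.1, p.1.1.1.2, by
          have h : (p.1.1.1 : V) + (p.1.1.2 : V) = 0 := p.2
          rw [eq_neg_of_add_eq_zero_left h]; exact W.neg_mem p.1.1.2.2⟩
        left_inv := fun x => rfl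
        right_inv := fun p => by
          have h : (p.1.1.1 : V) + (p.1.1.2 : V) = 0 := p.2
          refine Subtype.ext (Subtype.ext (Prod.ext (Subtype.ext rfl) (Subtype.ext ?_)))
          simp [eq_neg_of_add_eq_zero_left h] }
    exact e.finrank_eq.symm
  have hPdim : Module.finrank F P = Module.finrank F X₀ + Module.finrank F K := by
    have h := LinearMap.finrank_range_add_finrank_ker (L.comp P.subtype)
    rw [LinearMap.range_comp, Submodule.range_subtype, hL, hPker] at h
    exact h.symm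
  -- the radical
  let R : ((U ⊓ X : Submodule F V) × (W ⊓ X : Submodule F V) × K) →ₗ[F] P :=
    { toFun := fun x => ⟨(⟨x.1.1 + x.2.2.1, U.add_mem x.1.2.1 x.2.2.2.1⟩,
        ⟨x.2.1.1 - x.2.2.1, W.sub_mem x.2.1.2.1 x.2.2.2.2⟩), by
          show (x.1.1 + x.2.2.1) + (x.2.1.1 - x.2.2.1) ∈ X
          rw [show (x.1.1 + x.2.2.1) + (x.2.1.1 - x.2.2.1) = x.1.1 + x.2.1.1 by abel]
          exact X.add_mem x.1.2.2 x.2.1.2.2⟩
      map_add' := fun x y => by
        refine Subtype.ext (Prod.ext (Subtype.ext ?_) (Subtype.ext ?_)) <;> simp <;> abel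
      map_smul' := fun c x => by
        refine Subtype.ext (Prod.ext (Subtype.ext ?_) (Subtype.ext ?_)) <;> simp [smul_sub] }
  have hRrange : LinearMap.range R = LinearMap.ker β := by
    refine le_antisymm ?_ fun p hp => ?_
    · rintro _ ⟨⟨x₁, x₂, κ⟩, rfl⟩
      refine LinearMap.ext fun p' => ?_
      show polar Q (x₁.1 + κ.1) (p'.1.2 : V) = 0
      rw [polar_add_left, ts_polar_eq_zero Q hW κ.2.2 p'.1.2.2, add_zero]
      have h1 := ts_polar_eq_zero Q hX x₁.2.2 (hP p')
      rwa [polar_add_right, ts_polar_eq_zero Q hU x₁.2.1 p'.1.1.2, zero_add] at h1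
    · have hu : (p.1.1 : V) ∈ X ⊔ K := by
        rw [← hX₀perp]
        intro n hn
        obtain ⟨hnX, hnUW⟩ := Submodule.mem_inf.1 hn
        obtain ⟨u', hu', w', hw', rfl⟩ := Submodule.mem_sup.1 hnUW
        show polar Q (u' + w') (p.1.1 : V) = 0
        have h1 : polar Q (p.1.1 : V) w' = 0 :=
          LinearMap.congr_fun (LinearMap.mem_ker.1 hp) (⟨(⟨u', hu'⟩, ⟨w', hw'⟩), hnX⟩ : P)
        rw [polar_add_left, ts_polar_eq_zero Q hU hu' p.1.1.2, polar_comm, h1, add_zero]
      obtain ⟨x₁, hx₁, κ, hκ, hsum⟩ := Submodule.mem_sup.1 hu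
      have hx₁U : x₁ ∈ U := by
        rw [eq_sub_of_add_eq hsum]; exact U.sub_mem p.1.1.2 hκ.1
      have h2W : (p.1.2 : V) + κ ∈ W := W.add_mem p.1.2.2 hκ.2
      have h2X : (p.1.2 : V) + κ ∈ X := by
        have e : (p.1.2 : V) + κ = ((p.1.1 : V) + p.1.2) - x₁ := by rw [← hsum]; abel
        rw [e]; exact X.sub_mem (hP p) hx₁
      refine ⟨(⟨x₁, hx₁U, hx₁⟩, ⟨_, h2W, h2X⟩, ⟨κ, hκ⟩), ?_⟩
      refine Subtype.ext (Prod.ext (Subtype.ext ?_) (Subtype.ext ?_))
      · exact hsum
      · show (p.1.2 : V) + κ - κ = _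
        abel
  have hRker : Module.finrank F (LinearMap.ker R) = Module.finrank F ↥(X ⊓ K) := by
    have e : (X ⊓ K : Submodule F V) ≃ₗ[F] LinearMap.ker R :=
      { toFun := fun x => ⟨(⟨-x.1, U.neg_mem x.2.2.1, X.neg_mem x.2.1⟩, ⟨x.1, x.2.2.2, x.2.1⟩,
          ⟨x.1, x.2.2⟩), by
            refine Subtype.ext (Prod.ext (Subtype.ext ?_) (Subtype.ext ?_)) <;> simp [R]⟩
        map_add' := fun x y => by
          refine Subtype.ext (Prod.ext (Subtype.ext ?_) (Prod.ext (Subtype.ext rfl) (Subtype.ext rfl)))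
          simp; abel
        map_smul' := fun c x => by
          refine Subtype.ext (Prod.ext (Subtype.ext ?_) (Prod.ext (Subtype.ext rfl) (Subtype.ext rfl)))
          simp
        invFun := fun p => ⟨p.1.2.2.1, by
          have h : (p.1.2.1 : V) - p.1.2.2 = 0 := congrArg (fun q : P => (q.1.2 : V)) p.2
          rw [← sub_eq_zero.1 h]; exact p.1.2.1.2.2, p.1.2.2.2⟩
        left_inv := fun x => rfl
        right_inv := fun p => by
          have h1 : (p.1.1 : V) + p.1.2.2 = 0 := congrArg (fun q : P => (q.1.1 : V)) p.2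
          have h2 : (p.1.2.1 : V) - p.1.2.2 = 0 := congrArg (fun q : P => (q.1.2 : V)) p.2
          refine Subtype.ext (Prod.ext (Subtype.ext ?_) (Prod.ext (Subtype.ext ?_) (Subtype.ext rfl)))
          · simp [eq_neg_of_add_eq_zero_left h1]
          · simp [sub_eq_zero.1 h2] }
    exact e.finrank_eq.symm
  have hR := LinearMap.finrank_range_add_finrank_ker R
  rw [hRrange, hRker, Module.finrank_prod, Module.finrank_prod] at hR
  have heven := alt_even_corank β hβ
  have hle := Submodule.finrank_le (LinearMap.ker β)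
  have hX₀dim : Module.finrank F X₀ + Module.finrank F ↥(X ⊔ K) = 2 * m := by
    have h := LinearMap.BilinForm.finrank_orthogonal hQ X₀
    rw [hX₀perp, hm] at h
    have hmle : Module.finrank F X₀ ≤ 2 * m := hm ▸ Submodule.finrank_le X₀
    omega
  have hsup := Submodule.finrank_sup_add_finrank_inf_eq X K
  rw [dX] at hsup
  have bU : Module.finrank F K ≤ m := dU ▸ Submodule.finrank_mono inf_le_left
  have bWX : Module.finrank F ↥(W ⊓ X) ≤ m := dW ▸ Submodule.finrank_mono inf_le_left
  have bUX : Module.finrank F ↥(U ⊓ X) ≤ m := dU ▸ Submodule.finrank_mono inf_le_left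
  obtain ⟨t, ht⟩ := heven
  rw [Nat.even_iff]
  omega

theorem card_lagrangian_over (Q : QuadraticForm F V) (hQ : Q.polarBilin.Nondegenerate) {m : ℕ}
    (hm : Module.finrank F V = 2 * m) (hex : ∃ W : Submodule F V, Module.finrank F W = m ∧ ∀ w ∈ W, Q w = 0)
    {U : Submodule F V} (hd : Module.finrank F U + 1 = m) (hU : ∀ u ∈ U, Q u = 0) :
    Nat.card {W : Submodule F V // Module.finrank F W = m ∧ (∀ w ∈ W, Q w = 0) ∧ U ≤ W} = 2 := by
  classical
  -- one extension
  obtain ⟨W₁, hW₁U, hW₁, dW₁⟩ : ∃ W₁, U ≤ W₁ ∧ (∀ w ∈ W₁, Q w = 0) ∧ Module.finrank F W₁ = m := by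
    obtain ⟨L, hLd, hL⟩ := hex
    by_contra hnone
    have hmax : ∀ W : Submodule F V, U ≤ W → (∀ w ∈ W, Q w = 0) → W = U := by
      intro W hUW hW
      by_contra hne
      have hlt := Submodule.finrank_lt_finrank_of_lt (lt_of_le_of_ne hUW (Ne.symm hne))
      have ho := Submodule.finrank_mono (show W ≤ LinearMap.BilinForm.orthogonal Q.polarBilin W from
        fun x hx n hn => ts_polar_eq_zero Q hW hn hx)
      rw [LinearMap.BilinForm.finrank_orthogonal hQ, hm] at ho
      exact hnone ⟨W, hUW, hW, by omega⟩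
    have := CfsgLib.Forms.quad_witt_index Q hQ U L hU hL hmax
    omega
  obtain ⟨x, hx, hxU⟩ : ∃ x ∈ W₁, x ∉ U := by
    by_contra hc
    push Not at hc
    have := Submodule.finrank_mono hc
    omega
  -- the second extension
  obtain ⟨y₀, hy₀, hxy₀⟩ : ∃ y ∈ LinearMap.BilinForm.orthogonal Q.polarBilin U, polar Q x y = 1 := by
    by_contra hc
    push Not at hc
    apply hxU
    rw [← LinearMap.BilinForm.orthogonal_orthogonal hQ (polarBilin_refl Q) U]
    intro n hn
    show polar Q n x = 0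
    by_contra hne
    exact hc _ (Submodule.smul_mem _ (polar Q n x)⁻¹ hn)
      (by rw [polar_smul_right, polar_comm, smul_eq_mul, inv_mul_cancel₀ (by rwa [polar_comm])])
  have hxx : polar Q x x = 0 := ts_polar_eq_zero Q hW₁ hx hx
  set y := y₀ - Q y₀ • x with hy
  have hyU : ∀ u ∈ U, polar Q u y = 0 := fun u hu => by
    rw [hy, polar_sub_right, polar_smul_right, ts_polar_eq_zero Q hW₁ (hW₁U hu) hx, smul_zero, sub_zero]
    exact hy₀ u hu
  have hxy : polar Q x y = 1 := by
    rw [hy, polar_sub_right, polar_smul_right, hxx, hxy₀, smul_zero, sub_zero]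
  have hQy : Q y = 0 := by
    rw [hy, sub_eq_add_neg, ← neg_smul, QuadraticMap.map_add ⇑Q, QuadraticMap.map_smul, hW₁ x hx,
      polar_smul_right, polar_comm, hxy₀]
    simp
  have hyU' : y ∉ U := fun h => one_ne_zero (hxy.symm.trans (ts_polar_eq_zero Q hW₁ hx (hW₁U h)))
  set W₂ := U ⊔ Submodule.span F {y}
  have hW₂ : ∀ w ∈ W₂, Q w = 0 := fun w hw => by
    obtain ⟨u, hu, s, hs, rfl⟩ := Submodule.mem_sup.1 hw
    obtain ⟨t, rfl⟩ := Submodule.mem_span_singleton.1 hs
    simp [QuadraticMap.map_add ⇑Q, QuadraticMap.map_smul, hU u hu, hQy, polar_smul_right, hyU u hu]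
  have hy0 : y ≠ 0 := fun h => hyU' (h ▸ U.zero_mem)
  have dW₂ : Module.finrank F W₂ = m := by
    have h := Submodule.finrank_sup_add_finrank_inf_eq U (Submodule.span F {y})
    have hinf : U ⊓ Submodule.span F {y} = ⊥ := by
      rw [eq_bot_iff]
      rintro z ⟨hzU, hzy⟩
      obtain ⟨t, rfl⟩ := Submodule.mem_span_singleton.1 hzy
      rcases eq_or_ne t 0 with rfl | ht
      · simp
      · exact absurd (by simpa [smul_smul, inv_mul_cancel₀ ht] using U.smul_mem t⁻¹ hzU) hyU'
    rw [hinf, finrank_bot, finrank_span_singleton hy0] at h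
    show Module.finrank F ↥(U ⊔ Submodule.span F {y}) = m
    omega
  have hne : W₁ ≠ W₂ := fun h => by
    have hym : y ∈ W₁ := h ▸ Submodule.mem_sup_right (Submodule.mem_span_singleton_self y)
    exact one_ne_zero (hxy.symm.trans (ts_polar_eq_zero Q hW₁ hx hym))
  rw [show (2 : ℕ) = ({W₁, W₂} : Finset (Submodule F V)).card from (Finset.card_pair hne).symm,
    ← Nat.card_eq_finsetCard]
  refine Nat.card_congr (Equiv.subtypeEquivRight fun W => ?_)
  rw [Finset.mem_insert, Finset.mem_singleton]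
  constructor
  · rintro ⟨dW, hW, hUW⟩
    by_cases hc : W ≤ W₁
    · exact Or.inl (Submodule.eq_of_le_of_finrank_eq hc (dW.trans dW₁.symm))
    refine Or.inr (Submodule.eq_of_le_of_finrank_eq ?_ (dW.trans dW₂.symm))
    -- `U^⊥` is spanned by `U`, `x`, `y`
    have hperp : LinearMap.BilinForm.orthogonal Q.polarBilin U = W₁ ⊔ W₂ := by
      refine (Submodule.eq_of_le_of_finrank_eq (sup_le ?_ ?_) ?_).symm
      · exact fun z hz n hn => ts_polar_eq_zero Q hW₁ (hW₁U hn) hz
      · exact fun z hz n hn => ts_polar_eq_zero Q hW₂ (Submodule.mem_sup_left hn) hz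
      · have h := Submodule.finrank_sup_add_finrank_inf_eq W₁ W₂
        have hlt : W₁ ⊓ W₂ < W₁ := inf_le_left.lt_of_ne fun he => hne
          (Submodule.eq_of_le_of_finrank_eq (inf_eq_left.1 he) (dW₁.trans dW₂.symm))
        have h2 := Submodule.finrank_lt_finrank_of_lt hlt
        have h3 : Module.finrank F U ≤ Module.finrank F ↥(W₁ ⊓ W₂) :=
          Submodule.finrank_mono (le_inf hW₁U le_sup_left)
        rw [LinearMap.BilinForm.finrank_orthogonal hQ, hm]
        omega
    obtain ⟨z, hz, hzn⟩ := Set.not_subset.1 hc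
    intro w hw
    have key : ∀ v ∈ W, ∃ p s : F, ∃ u ∈ U, v = p • x + s • y + u ∧ p * s = 0 := by
      intro v hv
      have hvperp : v ∈ W₁ ⊔ W₂ := by
        rw [← hperp]; exact fun n hn => ts_polar_eq_zero Q hW (hUW hn) hv
      have hspan : W₁ ≤ U ⊔ Submodule.span F {x} := by
        refine le_of_eq (Submodule.eq_of_le_of_finrank_le (sup_le hW₁U ?_) ?_).symm
        · exact Submodule.span_le.2 (by simpa using hx)
        · have hlt : U < U ⊔ Submodule.span F {x} := SetLike.lt_iff_le_and_exists.2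
            ⟨le_sup_left, x, Submodule.mem_sup_right (Submodule.mem_span_singleton_self x), hxU⟩
          have := Submodule.finrank_lt_finrank_of_lt hlt
          omega
      obtain ⟨v₁, hv₁, v₂, hv₂, rfl⟩ := Submodule.mem_sup.1 hvperp
      obtain ⟨u₁, hu₁, x', hx', rfl⟩ := Submodule.mem_sup.1 (hspan hv₁)
      obtain ⟨u₂, hu₂, y', hy', rfl⟩ := Submodule.mem_sup.1 hv₂
      obtain ⟨p, rfl⟩ := Submodule.mem_span_singleton.1 hx'
      obtain ⟨s, rfl⟩ := Submodule.mem_span_singleton.1 hy'
      refine ⟨p, s, u₁ + u₂, U.add_mem hu₁ hu₂, by abel, ?_⟩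
      have h := hW _ hv
      rw [show u₁ + p • x + (u₂ + s • y) = p • x + s • y + (u₁ + u₂) by abel] at h
      have hxu : polar Q x (u₁ + u₂) = 0 := ts_polar_eq_zero Q hW₁ hx (hW₁U (U.add_mem hu₁ hu₂))
      have hyu : polar Q y (u₁ + u₂) = 0 := by rw [polar_comm]; exact hyU _ (U.add_mem hu₁ hu₂)
      simp only [QuadraticMap.map_add ⇑Q (p • x + s • y), QuadraticMap.map_add ⇑Q (p • x) (s • y),
        QuadraticMap.map_smul, hW₁ x hx, hQy, hU _ (U.add_mem hu₁ hu₂), polar_add_left,
        polar_smul_left, polar_smul_right, hxy, hxu, hyu, smul_eq_mul, mul_zero, zero_add, add_zero,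
        mul_one] at h
      rw [mul_comm] at h ⊢
      linear_combination h
    obtain ⟨p, s, u, hu, hzeq, hps⟩ := key z hz
    have hs : s ≠ 0 := fun hs => hzn (by
      rw [hzeq, hs, zero_smul, add_zero]; exact W₁.add_mem (W₁.smul_mem _ hx) (hW₁U hu))
    obtain ⟨p', s', u', hu', hweq, hps'⟩ := key w hw
    obtain ⟨p'', s'', u'', hu'', hweq', hps''⟩ := key (z + w) (W.add_mem hz hw)
    have hp : p = 0 := (mul_eq_zero.1 hps).resolve_right hs
    have hxy' : p' = 0 := by
      -- the polar value of `z` and `w` vanishes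
      have h := ts_polar_eq_zero Q hW hz hw
      have hxu : ∀ u ∈ U, polar Q x u = 0 := fun u hu => ts_polar_eq_zero Q hW₁ hx (hW₁U hu)
      have hyu : ∀ u ∈ U, polar Q y u = 0 := fun u hu => by rw [polar_comm]; exact hyU u hu
      have hyy : polar Q y y = 0 := by rw [QuadraticMap.polar_self, hQy, smul_zero]
      rw [hzeq, hweq, hp] at h
      simp only [zero_smul, zero_add, polar_add_left, polar_add_right, polar_smul_left, polar_smul_right,
        polar_comm (f := ⇑Q) y x, hxy, hyy, hyu u' hu', hyU _ hu, polar_comm (f := ⇑Q) u x, hxu u hu,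
        ts_polar_eq_zero Q hU hu hu', smul_eq_mul, mul_zero, add_zero, mul_one] at h
      rcases mul_eq_zero.1 h with h | h
      · first | exact absurd h hs | exact h
      · first | exact absurd h hs | exact h
    rw [hweq, hxy', zero_smul, zero_add, add_comm]
    exact Submodule.mem_sup.2 ⟨u', hu', s' • y, Submodule.smul_mem _ _ (Submodule.mem_span_singleton_self y), rfl⟩
  · rintro (rfl | rfl)
    · exact ⟨dW₁, hW₁, hW₁U⟩
    · exact ⟨dW₂, hW₂, le_sup_left⟩

/-- the coordinate Lagrangian of `Σ x_i y_i` obtained by exchanging the coordinates in `s` -/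
def coordLag (m : ℕ) (F : Type*) [Field F] (s : Finset (Fin m)) : Submodule F (Fin m ⊕ Fin m → F) :=
  LinearMap.range
    ({ toFun := fun x => Sum.elim (fun i => if i ∈ s then 0 else x i) (fun i => if i ∈ s then x i else 0)
       map_add' := fun x y => by ext (i | i) <;> simp [ite_add_zero] <;> split_ifs <;> simp
       map_smul' := fun c x => by ext (i | i) <;> simp } : (Fin m → F) →ₗ[F] (Fin m ⊕ Fin m → F))

theorem mem_coordLag {m : ℕ} {s : Finset (Fin m)} {v : Fin m ⊕ Fin m → F} :
    v ∈ coordLag m F s ↔ (∀ i ∈ s, v (.inl i) = 0) ∧ ∀ i, i ∉ s → v (.inr i) = 0 := by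
  constructor
  · rintro ⟨x, rfl⟩
    exact ⟨fun i hi => if_pos hi, fun i hi => if_neg hi⟩
  · rintro ⟨h1, h2⟩
    refine ⟨fun i => if i ∈ s then v (.inr i) else v (.inl i), funext ?_⟩
    rintro (i | i) <;> by_cases hi : i ∈ s
    · simp [hi, h1 i hi]
    · simp [hi]
    · simp [hi]
    · simp [hi, h2 i hi]

theorem coordLag_spec (m : ℕ) (s : Finset (Fin m)) :
    Module.finrank F (coordLag m F s) = m ∧ ∀ w ∈ coordLag m F s, plusQ m F w = 0 := by
  refine ⟨?_, fun w hw => ?_⟩
  · rw [coordLag, LinearMap.finrank_range_of_inj, Module.finrank_fintype_fun_eq_card, Fintype.card_fin]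
    intro x y h
    funext i
    have h1 := congrFun h (.inl i)
    have h2 := congrFun h (.inr i)
    by_cases hi : i ∈ s
    · simpa [hi] using h2
    · simpa [hi] using h1
  · rw [mem_coordLag] at hw
    rw [plusQ_coe]
    refine Finset.sum_eq_zero fun i _ => ?_
    by_cases hi : i ∈ s
    · rw [hw.1 i hi, zero_mul]
    · rw [hw.2 i hi, mul_zero]

theorem finrank_coordLag_inf (m : ℕ) (i₀ : Fin m) :
    Module.finrank F ↥(coordLag m F ∅ ⊓ coordLag m F {i₀}) + 1 = m := by
  set π : (Fin m ⊕ Fin m → F) →ₗ[F] F := LinearMap.proj (Sum.inl i₀)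
  have heq : coordLag m F ∅ ⊓ coordLag m F {i₀} = coordLag m F ∅ ⊓ LinearMap.ker π := by
    ext v
    simp only [Submodule.mem_inf, mem_coordLag, Finset.notMem_empty, false_implies, implies_true,
      not_false_eq_true, true_implies, true_and, Finset.mem_singleton, LinearMap.mem_ker, π,
      LinearMap.proj_apply, forall_eq]
    exact ⟨fun h => ⟨h.1, h.2.1⟩, fun h => ⟨h.1, h.2, fun i _ => h.1 i⟩⟩
  rw [heq]
  have h := LinearMap.finrank_range_add_finrank_ker (π.comp (coordLag m F ∅).subtype)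
  have hr : LinearMap.range (π.comp (coordLag m F ∅).subtype) = ⊤ := by
    refine LinearMap.range_eq_top.2 fun c =>
      ⟨⟨Pi.single (Sum.inl i₀) c, mem_coordLag.2 ⟨by simp, fun i _ => by simp⟩⟩, by simp [π]⟩
  rw [hr, finrank_top, Module.finrank_self, (coordLag_spec (F := F) m ∅).1, LinearMap.ker_comp,
    ← Submodule.finrank_map_subtype_eq, Submodule.map_comap_subtype] at h
  omega

end CfsgLib.Orth
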