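/-
Siegel transformations: commutators, and generation of `Ω` in odd characteristic, dimension at least five.
-/
import Cfsg.Agent.Lib.Orth.Omega

set_option autoImplicit false
set_option linter.unusedSectionVars false

namespace CfsgLib.Orth

open Matrix QuadraticMap

variable {ι : Type} [Fintype ι] [DecidableEq ι] {F : Type*} [Field F] {Q : QuadraticForm F (ι → F)}

theorem coe_eich {u v : ι → F} (hu : Q u = 0) (hv : Q v = 0) (huv : polar Q u v = 0) (c : F) :
    ((eich Q u (c • v) : Matrix.GeneralLinearGroup ι F) : Matrix ι ι F) =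
      Cfsg.siegelMatrix ⇑Q u v c := by
  refine Matrix.ext_of_mulVec_single fun i => ?_
  rw [← app_apply, app_eich hu (by rw [polar_smul_right, huv, smul_zero])]
  simp only [Cfsg.siegelMatrix, Matrix.add_mulVec, Matrix.one_mulVec, Matrix.smul_mulVec,
    Matrix.sub_mulVec, Matrix.vecMulVec_mulVec, polarVec_dotProduct, op_smul_eq_smul,
    QuadraticMap.map_smul, hv, polar_smul_right, polar_comm (f := ⇑Q) u, polar_comm (f := ⇑Q) v,
    smul_eq_mul, mul_zero]
  module

theorem eich_conj {u a : ι → F} (hu : Q u = 0) (ha : polar Q u a = 0) (g : O Q) :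
    g * eich Q u a * g⁻¹ = eich Q (app g u) (app g a) :=
  ext_app fun x => by
    have h : ∀ y, polar Q (app g⁻¹ x) y = polar Q x (app g y) := fun y => by
      rw [← polar_app g, app_app_inv]
    rw [app_mul, app_mul, app_eich hu ha, app_eich (by rw [Q_app, hu]) (by rw [polar_app, ha]),
      map_add, map_add, map_smul, map_smul, app_app_inv, h, h, Q_app]

theorem eich_zero_left {a : ι → F} : eich Q (0 : ι → F) a = 1 :=
  ext_app fun x => by simp [app_eich (Q := Q) (u := (0 : ι → F)) (QuadraticMap.map_zero Q)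
    (polar_zero_left Q a)]

variable (hQ : Q.polarBilin.Nondegenerate) (h2 : (2 : F) ≠ 0)
include hQ h2

open scoped commutatorElement in
theorem eich_mem_commutatorSet {u v : ι → F} (hu : Q u = 0) (hv : Q v = 0) (huv : polar Q u v = 0)
    (c : F) : eich Q u (c • v) ∈ commutatorSet (O Q) := by
  by_cases hspan : v ∈ Submodule.span F {u}
  · obtain ⟨t, rfl⟩ := Submodule.mem_span_singleton.1 hspan
    rw [smul_smul, eich_smul_self hu]
    exact ⟨1, 1, by simp⟩
  obtain ⟨w₀, huw₀, hvw₀⟩ := exists_polar_eq_zero_one hQ hspan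
  have hvv : polar Q v v = 0 := by rw [polar_self', hv, mul_zero]
  set w := w₀ - Q w₀ • v with hwdef
  have huw : polar Q u w = 0 := by simp [hwdef, polar_sub_right, polar_smul_right, huw₀, huv]
  have hvw : polar Q v w = 1 := by simp [hwdef, polar_sub_right, polar_smul_right, hvw₀, hvv]
  have hw : Q w = 0 := by
    rw [hwdef, sub_eq_add_neg, ← neg_smul, QuadraticMap.map_add ⇑Q, QuadraticMap.map_smul, hv,
      polar_smul_right, polar_comm, hvw₀]
    simp
  have hwv : polar Q w v = 1 := by rw [polar_comm, hvw]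
  have hp : Q (v + w) = 1 := by rw [QuadraticMap.map_add ⇑Q, hv, hw, hvw]; ring
  have hm : Q (v - w) = -1 := by
    rw [sub_eq_add_neg, QuadraticMap.map_add ⇑Q, QuadraticMap.map_neg, polar_neg_right, hv, hw, hvw]
    ring
  set h := refl Q (v + w) * refl Q (v - w)
  have hhu : app h u = u := by
    rw [app_mul, app_refl_of_ortho (v := v - w) (by rw [polar_sub_right, huv, huw, sub_zero]),
      app_refl_of_ortho (by rw [polar_add_right, huv, huw, add_zero])]
  have hhv : app h v = -v := by
    rw [app_mul, app_refl (v - w), hm, polar_sub_right, hvv, hvw]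
    norm_num
    rw [app_refl, hp, polar_add_right, hwv,
      polar_self', hw, mul_zero]
    module
  refine ⟨h, eich Q u ((-(c / 2)) • v), ?_⟩
  have ha : polar Q u ((-(c / 2)) • v) = 0 := by rw [polar_smul_right, huv, smul_zero]
  have hinv : (eich Q u ((-(c / 2)) • v))⁻¹ = eich Q u ((c / 2) • v) := by
    refine inv_eq_of_mul_eq_one_left ?_
    rw [eich_add hu (by rw [polar_smul_right, huv, smul_zero]) ha, ← add_smul, add_neg_cancel,
      zero_smul, ← zero_smul F u, eich_smul_self hu]
  rw [commutatorElement_def, eich_conj hu ha, hhu, map_smul, hhv, hinv, smul_neg, neg_smul, neg_neg,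
    eich_add hu (by rw [polar_smul_right, huv, smul_zero]) (by rw [polar_smul_right, huv, smul_zero]),
    ← add_smul]
  congr 2
  field_simp
  ring

variable [Fintype F]

omit hQ in
theorem exists_binary {A B : F} (hA : A ≠ 0) (hB : B ≠ 0) (c : F) :
    ∃ x y : F, A * x ^ 2 + B * y ^ 2 = c := by
  obtain ⟨a, b, hab⟩ := FiniteField.exists_root_sum_quadratic
    (f := Polynomial.C A * Polynomial.X ^ 2 - Polynomial.C c)
    (g := Polynomial.C B * Polynomial.X ^ 2)
    (by
      rw [sub_eq_add_neg, ← map_neg Polynomial.C, Polynomial.degree_add_C (by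
        rw [Polynomial.degree_C_mul_X_pow 2 hA]; norm_num), Polynomial.degree_C_mul_X_pow 2 hA]
      rfl)
    (by rw [Polynomial.degree_C_mul_X_pow 2 hB]; rfl)
    (FiniteField.odd_card_of_char_ne_two (fun hch => by
      have : CharP F 2 := ringChar.of_eq hch
      exact h2 CharTwo.two_eq_zero))
  simp only [Polynomial.eval_sub, Polynomial.eval_mul, Polynomial.eval_C, Polynomial.eval_pow,
    Polynomial.eval_X] at hab
  exact ⟨a, b, by linear_combination hab⟩

/-- in dimension at least five the orthogonal complement of two orthogonal vectors takes every value -/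
theorem exists_ortho_value (hn : 5 ≤ Fintype.card ι) {x y : ι → F} (hx : x ≠ 0) (hy : Q y ≠ 0)
    (hxy : polar Q x y = 0) (c : F) : ∃ w, polar Q x w = 0 ∧ polar Q y w = 0 ∧ Q w = c := by
  classical
  set W := LinearMap.BilinForm.orthogonal Q.polarBilin
    (Submodule.span F {x} ⊔ Submodule.span F {y})
  have hy0 : y ≠ 0 := fun h => hy (by rw [h, QuadraticMap.map_zero])
  obtain ⟨w₁, hw₁, hw₁Q⟩ : ∃ w ∈ W, Q w ≠ 0 := by
    by_contra hall
    push Not at hall
    have := two_finrank_le hQ hall
    rw [LinearMap.BilinForm.finrank_orthogonal hQ, Module.finrank_fintype_fun_eq_card] at this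
    have h3 := Submodule.finrank_add_le_finrank_add_finrank (Submodule.span F {x}) (Submodule.span F {y})
    rw [finrank_span_singleton hx, finrank_span_singleton hy0] at h3
    omega
  rw [LinearMap.BilinForm.mem_orthogonal_iff] at hw₁
  have hxw₁ : polar Q x w₁ = 0 := hw₁ x (Submodule.mem_sup_left (Submodule.mem_span_singleton_self x))
  have hyw₁ : polar Q y w₁ = 0 := hw₁ y (Submodule.mem_sup_right (Submodule.mem_span_singleton_self y))
  have hw₁0 : w₁ ≠ 0 := fun h => hw₁Q (by rw [h, QuadraticMap.map_zero])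
  set S := Submodule.span F {x} ⊔ Submodule.span F {y} ⊔ Submodule.span F {w₁}
  set W₂ := LinearMap.BilinForm.orthogonal Q.polarBilin S with hW₂
  obtain ⟨w₂, hw₂, hw₂Q⟩ : ∃ w ∈ W₂, Q w ≠ 0 := by
    by_contra hall
    push Not at hall
    have hsub : W₂ ≤ Submodule.span F {x} := by
      intro z hz
      have hzS : z ∈ LinearMap.BilinForm.orthogonal Q.polarBilin W₂ := by
        rw [LinearMap.BilinForm.mem_orthogonal_iff]
        intro n hn'
        change polar Q n z = 0
        simp [QuadraticMap.polar, hall n hn', hall z hz, hall _ (W₂.add_mem hn' hz)]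
      rw [hW₂, LinearMap.BilinForm.orthogonal_orthogonal hQ (polarBilin_isRefl hQ)] at hzS
      rw [hW₂, LinearMap.BilinForm.mem_orthogonal_iff] at hz
      obtain ⟨r, hr, t, ht, rfl⟩ := Submodule.mem_sup.1 hzS
      obtain ⟨p, hp, q, hq, rfl⟩ := Submodule.mem_sup.1 hr
      obtain ⟨p', rfl⟩ := Submodule.mem_span_singleton.1 hp
      obtain ⟨q', rfl⟩ := Submodule.mem_span_singleton.1 hq
      obtain ⟨t', rfl⟩ := Submodule.mem_span_singleton.1 ht
      have hyz : polar Q y (p' • x + q' • y + t' • w₁) = 0 :=
        hz y (Submodule.mem_sup_left (Submodule.mem_sup_right (Submodule.mem_span_singleton_self y)))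
      have hwz : polar Q w₁ (p' • x + q' • y + t' • w₁) = 0 :=
        hz w₁ (Submodule.mem_sup_right (Submodule.mem_span_singleton_self w₁))
      simp [polar_add_right, polar_smul_right, polar_comm (f := ⇑Q) y x, hxy, hyw₁,
        polar_comm (f := ⇑Q) w₁ x, hxw₁, polar_comm (f := ⇑Q) w₁ y, h2, hy, hw₁Q] at hyz hwz
      rw [hyz, hwz]
      simpa using Submodule.smul_mem _ p' (Submodule.mem_span_singleton_self x)
    have := Submodule.finrank_mono hsub
    rw [finrank_span_singleton hx, hW₂, LinearMap.BilinForm.finrank_orthogonal hQ,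
      Module.finrank_fintype_fun_eq_card] at this
    have h3 := Submodule.finrank_add_le_finrank_add_finrank
      (Submodule.span F {x} ⊔ Submodule.span F {y}) (Submodule.span F {w₁})
    have h4 := Submodule.finrank_add_le_finrank_add_finrank (Submodule.span F {x}) (Submodule.span F {y})
    rw [finrank_span_singleton hw₁0] at h3
    rw [finrank_span_singleton hx, finrank_span_singleton hy0] at h4
    have h5 : Module.finrank F S ≤
        Module.finrank F (Submodule.span F {x} ⊔ Submodule.span F {y} : Submodule F (ι → F)) + 1 := h3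
    omega
  rw [hW₂, LinearMap.BilinForm.mem_orthogonal_iff] at hw₂
  have hxw₂ : polar Q x w₂ = 0 :=
    hw₂ x (Submodule.mem_sup_left (Submodule.mem_sup_left (Submodule.mem_span_singleton_self x)))
  have hyw₂ : polar Q y w₂ = 0 :=
    hw₂ y (Submodule.mem_sup_left (Submodule.mem_sup_right (Submodule.mem_span_singleton_self y)))
  have hww : polar Q w₁ w₂ = 0 :=
    hw₂ w₁ (Submodule.mem_sup_right (Submodule.mem_span_singleton_self w₁))
  obtain ⟨a, b, hab⟩ := exists_binary h2 hw₁Q hw₂Q c
  refine ⟨a • w₁ + b • w₂, ?_, ?_, ?_⟩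
  · simp [polar_add_right, polar_smul_right, hxw₁, hxw₂]
  · simp [polar_add_right, polar_smul_right, hyw₁, hyw₂]
  · simp only [QuadraticMap.map_add ⇑Q, QuadraticMap.map_smul, polar_smul_left, polar_smul_right,
      hww, smul_eq_mul]
    linear_combination hab

omit hQ h2 in
/-- the subgroup generated by the Siegel transformations -/
noncomputable def siegelClosure (Q : QuadraticForm F (ι → F)) : Subgroup (O Q) :=
  Subgroup.closure {g | ∃ (u v : ι → F) (c : F), Q u = 0 ∧ Q v = 0 ∧ polar Q u v = 0 ∧
    g = eich Q u (c • v)}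

omit hQ h2 in
theorem siegelClosure_normal : (siegelClosure Q).Normal where
  conj_mem n hn g := by
    suffices siegelClosure Q ≤ (siegelClosure Q).comap (MulAut.conj g).toMonoidHom from this hn
    refine (Subgroup.closure_le _).2 ?_
    rintro _ ⟨u, v, c, hu, hv, huv, rfl⟩
    refine Subgroup.subset_closure ⟨app g u, app g v, c, by rw [Q_app, hu], by rw [Q_app, hv],
      by rw [polar_app, huv], ?_⟩
    change g * eich Q u (c • v) * g⁻¹ = _
    rw [eich_conj hu (by rw [polar_smul_right, huv, smul_zero]), map_smul]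

theorem eich_mem_siegelClosure (hn : 5 ≤ Fintype.card ι) {u a : ι → F} (hu : Q u = 0)
    (ha : polar Q u a = 0) : eich Q u a ∈ siegelClosure Q := by
  rcases eq_or_ne u 0 with rfl | hu0
  · rw [eich_zero_left]; exact Subgroup.one_mem _
  have hsing : ∀ s, Q s = 0 → polar Q u s = 0 → eich Q u s ∈ siegelClosure Q := fun s hs hus =>
    Subgroup.subset_closure ⟨u, s, 1, hu, hs, hus, by rw [one_smul]⟩
  rcases eq_or_ne (Q a) 0 with h | h
  · exact hsing a h ha
  obtain ⟨w, huw, haw, hw⟩ := exists_ortho_value hQ h2 hn hu0 h ha (-(4⁻¹ * Q a))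
  set s := (2 : F)⁻¹ • a + w with hsdef
  have h4 : (4 : F) ≠ 0 := by rw [show (4 : F) = 2 * 2 by norm_num]; exact mul_ne_zero h2 h2
  have hs : Q s = 0 := by
    simp only [hsdef, QuadraticMap.map_add ⇑Q, QuadraticMap.map_smul, polar_smul_left, haw, hw,
      smul_eq_mul]
    field_simp
    ring
  have hus : polar Q u s = 0 := by simp [hsdef, polar_add_right, polar_smul_right, ha, huw]
  have has : polar Q a s = Q a := by
    simp only [hsdef, polar_add_right, polar_smul_right, polar_self', haw, smul_eq_mul]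
    field_simp
    ring
  have hs' : Q (a - s) = 0 := by
    rw [sub_eq_add_neg, QuadraticMap.map_add ⇑Q, QuadraticMap.map_neg, polar_neg_right, hs, has]
    ring
  have hus' : polar Q u (a - s) = 0 := by rw [polar_sub_right, ha, hus, sub_zero]
  rw [← add_sub_cancel s a, ← eich_add hu hus hus']
  exact mul_mem (hsing s hs hus) (hsing _ hs' hus')

theorem pair_mem_siegelClosure (hn : 5 ≤ Fintype.card ι) {a b : ι → F} (ha : Q a ≠ 0)
    (hab : Q a = Q b) : refl Q a * refl Q b ∈ siegelClosure Q := by
  have hplus : ∀ a b : ι → F, Q a ≠ 0 → Q a = Q b → polar Q a b = 2 * Q a →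
      refl Q a * refl Q b ∈ siegelClosure Q := by
    intro a b ha hab hf
    have hz : Q (b - a) = 0 := by
      rw [sub_eq_add_neg, QuadraticMap.map_add ⇑Q, QuadraticMap.map_neg, polar_neg_right,
        polar_comm, hf, ← hab]
      ring
    have haz : polar Q a (b - a) = 0 := by rw [polar_sub_right, hf, polar_self', sub_self]
    have hza : polar Q ((Q a)⁻¹ • (b - a)) a = 0 := by
      rw [polar_smul_left, polar_comm, haz, smul_zero]
    have hz' : Q ((Q a)⁻¹ • (b - a)) = 0 := by rw [QuadraticMap.map_smul, hz, smul_zero]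
    have := eich_mem_siegelClosure hQ h2 hn hz' hza
    rwa [eich_eq_refl_mul hz' hza ha, smul_smul, mul_inv_cancel₀ ha, one_smul,
      add_sub_cancel] at this
  have hpm : ∀ a b : ι → F, Q a ≠ 0 → Q a = Q b → (polar Q a b = 2 * Q a ∨ polar Q a b = -(2 * Q a)) →
      refl Q a * refl Q b ∈ siegelClosure Q := by
    rintro a b ha hab (hf | hf)
    · exact hplus a b ha hab hf
    · rw [← refl_neg b]
      exact hplus a (-b) ha (by rw [QuadraticMap.map_neg, hab]) (by rw [polar_neg_right, hf, neg_neg])
  set f := polar Q a b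
  by_cases hf : f = 2 * Q a ∨ f = -(2 * Q a)
  · exact hpm a b ha hab hf
  push Not at hf
  have h2a : 2 * Q a ≠ 0 := mul_ne_zero h2 ha
  set k := f / (2 * Q a) with hk
  have hka : k * (2 * Q a) = f := div_mul_cancel₀ _ h2a
  set b₀ := b - k • a with hb₀
  have hab₀ : polar Q a b₀ = 0 := by
    rw [hb₀, polar_sub_right, polar_smul_right, polar_self', smul_eq_mul, hka, sub_self]
  have hQb₀ : Q b₀ = Q a * (1 - k ^ 2) := by
    simp only [hb₀, sub_eq_add_neg b, ← neg_smul, QuadraticMap.map_add ⇑Q, QuadraticMap.map_smul,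
      polar_smul_right, polar_comm (f := ⇑Q) b a, smul_eq_mul, ← hab]
    linear_combination k * hka
  have hb₀0 : Q b₀ ≠ 0 := by
    rw [hQb₀]
    refine mul_ne_zero ha fun hk1 => ?_
    rcases mul_eq_zero.1 (show (1 - k) * (1 + k) = 0 by linear_combination hk1) with h | h
    · exact hf.1 (by rw [← hka, ← sub_eq_zero.1 h, one_mul])
    · exact hf.2 (by rw [← hka, eq_neg_of_add_eq_zero_right h, neg_one_mul])
  have ha0 : a ≠ 0 := fun h => ha (by rw [h, QuadraticMap.map_zero])
  obtain ⟨w, haw, hbw, hw⟩ := exists_ortho_value hQ h2 hn ha0 hb₀0 hab₀ (-Q b₀)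
  -- a vector `c` adjacent to both
  set t := (2 * Q a - f) / (2 * Q b₀) with ht
  set z := b₀ + w
  have hQz : Q z = 0 := by rw [QuadraticMap.map_add ⇑Q, hw, hbw]; ring
  have haz : polar Q a z = 0 := by rw [polar_add_right, hab₀, haw, add_zero]
  have hbz : polar Q b z = 2 * Q b₀ := by
    have hb : b = b₀ + k • a := by rw [hb₀]; abel
    rw [hb, polar_add_left, polar_smul_left, haz, polar_add_right, polar_self', hbw, smul_zero]
    ring
  set c := a + t • z
  have hQc : Q c = Q a := by
    simp only [c, QuadraticMap.map_add ⇑Q, QuadraticMap.map_smul, polar_smul_right, hQz, haz,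
      smul_eq_mul, mul_zero, add_zero]
  have hac : polar Q a c = 2 * Q a := by
    simp only [c, polar_add_right, polar_smul_right, polar_self', haz, smul_eq_mul, mul_zero, add_zero]
  have hcb : polar Q c b = 2 * Q c := by
    rw [hQc]
    simp only [c, polar_add_left, polar_smul_left, polar_comm (f := ⇑Q) z b, hbz, smul_eq_mul]
    rw [ht, div_mul_cancel₀ _ (mul_ne_zero h2 hb₀0)]
    ring
  have h1 := hplus a c ha hQc.symm hac
  have h3 := hplus c b (by rw [hQc]; exact ha) (hQc.trans hab) hcb
  have := mul_mem h1 h3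
  rwa [mul_assoc, ← mul_assoc (refl Q c), refl_mul_self, one_mul] at this

theorem commutator_eq_siegelClosure [DecidableEq F] (hn : 5 ≤ Fintype.card ι) :
    commutator (O Q) = siegelClosure Q := by
  obtain ⟨d, hd⟩ := FiniteField.exists_nonsquare (F := F) fun hch => by
    have : CharP F 2 := ringChar.of_eq hch
    exact h2 CharTwo.two_eq_zero
  have : (siegelClosure Q).Normal := siegelClosure_normal
  refine le_antisymm ?_ ?_
  · rw [commutator_eq hQ h2 hd]
    exact ker_chiPair_le hQ h2 hd _ fun u v hu huv => pair_mem_siegelClosure hQ h2 hn hu huv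
  · refine (Subgroup.closure_le _).2 ?_
    rintro _ ⟨u, v, c, hu, hv, huv, rfl⟩
    rw [SetLike.mem_coe, commutator_eq_closure]
    exact Subgroup.subset_closure (eich_mem_commutatorSet hQ h2 hu hv huv c)

end CfsgLib.Orth
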