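import Mathlib
import Cfsg.Agent.Helper57Spinor
import Cfsg.Agent.Lib.Orth.NegOne

/-!
`Ω_{2m+1}(q)`, `q` odd, `m ≥ 3`: trivial centre and `m` involutions with fixed spaces of different dimensions.
-/

set_option autoImplicit false
set_option linter.unusedSectionVars false

namespace CfsgLib.OrthOddInv

open QuadraticMap CfsgLib.Orth Cfsg.Agent.Spinor57

variable {F : Type*} [Field F] [Fintype F] {m : ℕ}

/-- Indices: `m + 1` vectors of value `1` and `m` of value `-1`. -/
abbrev Idx (m : ℕ) : Type := Fin (m + 1) ⊕ Fin m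

/-- An orthogonal basis. -/
def vec (F : Type*) [Field F] (m : ℕ) : Idx m → (Unit ⊕ (Fin m ⊕ Fin m) → F) :=
  Sum.elim
    (Fin.cases (Pi.single (.inl ()) 1)
      fun i => Pi.single (.inr (.inl i)) 1 + Pi.single (.inr (.inr i)) 1)
    (fun i => Pi.single (.inr (.inl i)) 1 - Pi.single (.inr (.inr i)) 1)

/-- Its values. -/
def val (F : Type*) [Field F] (m : ℕ) : Idx m → F := Sum.elim (fun _ => 1) (fun _ => -1)

theorem val_ne (s : Idx m) : val F m s ≠ 0 := by rcases s with s | s <;> simp [val]

theorem Q_vec (s : Idx m) : qOdd m F (vec F m s) = val F m s := by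
  rw [qOdd_coe]
  rcases s with s | s
  · refine Fin.cases ?_ (fun i => ?_) s <;> simp [vec, val, Cfsg.quadFormOdd, Pi.single_apply]
  · simp [vec, val, Cfsg.quadFormOdd, Pi.single_apply]

theorem polar_vec (s t : Idx m) (h : s ≠ t) : polar (qOdd m F) (vec F m s) (vec F m t) = 0 := by
  rw [polar_qOdd]
  rcases s with s | s <;> rcases t with t | t
  · revert h
    refine Fin.cases ?_ (fun i => ?_) s <;> refine Fin.cases ?_ (fun j => ?_) t <;>
      simp [vec, Pi.single_apply]
    intro hij
    exact Finset.sum_eq_zero fun k _ => by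
      by_cases h1 : k = i <;> by_cases h2 : k = j <;> simp_all
  · refine Fin.cases ?_ (fun i => ?_) s <;> simp [vec, Pi.single_apply]
  · refine Fin.cases ?_ (fun i => ?_) t <;> simp [vec, Pi.single_apply]
    exact Finset.sum_eq_zero fun k _ => by
      by_cases h1 : k = i <;> by_cases h2 : k = s <;> simp_all
  · simp [vec, Pi.single_apply]
    refine Finset.sum_eq_zero fun k _ => ?_
    by_cases h1 : k = s <;> by_cases h2 : k = t <;> simp_all

variable (h2 : (2 : F) ≠ 0)

theorem polar_vec_self (s : Idx m) : polar (qOdd m F) (vec F m s) (vec F m s) = 2 * val F m s := by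
  rw [polar_self', Q_vec]

include h2 in
theorem polar_vec_ne (s : Idx m) : polar (qOdd m F) (vec F m s) (vec F m s) ≠ 0 := by
  rw [polar_vec_self]; exact mul_ne_zero h2 (val_ne s)

include h2 in
theorem li_vec : LinearIndependent F (vec F m) := by
  rw [Fintype.linearIndependent_iff]
  intro c hc s
  have h := congrArg (fun x => (qOdd m F).polarBilin (vec F m s) x) hc
  simp only [map_sum, map_smul, polarBilin_apply_apply, map_zero, smul_eq_mul] at h
  rw [Finset.sum_eq_single s (fun t _ ht => by rw [polar_vec s t (Ne.symm ht), mul_zero])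
    (fun h' => absurd (Finset.mem_univ s) h')] at h
  exact (mul_eq_zero.1 h).resolve_right (polar_vec_ne h2 s)

theorem card_idx : Fintype.card (Idx m) = Module.finrank F (Unit ⊕ (Fin m ⊕ Fin m) → F) := by
  simp; omega

include h2 in
/-- Two vectors orthogonal to the same basis vectors are equal. -/
theorem ext_polar {x y : Unit ⊕ (Fin m ⊕ Fin m) → F}
    (h : ∀ s, polar (qOdd m F) x (vec F m s) = polar (qOdd m F) y (vec F m s)) : x = y := by
  let b := basisOfLinearIndependentOfCardEqFinrank' (vec F m) (li_vec h2) card_idx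
  rw [← sub_eq_zero]
  refine (qOdd_nondegenerate h2).1 _ fun z => ?_
  have hz : (qOdd m F).polarBilin (x - y) = 0 := b.ext fun s => by simp [b, h]
  rw [hz]; rfl

include h2 in
theorem pair_mem_omega {u v : Unit ⊕ (Fin m ⊕ Fin m) → F} (hu : qOdd m F u ≠ 0)
    (huv : qOdd m F u = qOdd m F v) : refl (qOdd m F) u * refl (qOdd m F) v ∈ commutator (O (qOdd m F)) := by
  classical
  obtain ⟨g, hg⟩ := conj_of_eq_value h2 hu huv
  rw [commutator_eq_closure]
  exact Subgroup.subset_closure (pair_mem_commutator hg)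

/-- The span of two vectors. -/
abbrev span2 (u v : Unit ⊕ (Fin m ⊕ Fin m) → F) : Submodule F (Unit ⊕ (Fin m ⊕ Fin m) → F) :=
  Submodule.span F {u, v}

variable {z : O (qOdd m F)} (hz : ∀ g ∈ commutator (O (qOdd m F)), g * z = z * g)

include h2 hz in
/-- A central element preserves the plane of two orthogonal vectors with the same value. -/
theorem app_mem_span2 {u v : Unit ⊕ (Fin m ⊕ Fin m) → F} (hu : qOdd m F u ≠ 0)
    (huv : qOdd m F u = qOdd m F v) (ho : polar (qOdd m F) u v = 0) : app z u ∈ span2 u v := by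
  set R := refl (qOdd m F) u * refl (qOdd m F) v with hR
  have hv : qOdd m F v ≠ 0 := huv ▸ hu
  have hRu : app R u = -u := by
    rw [hR, app_mul, app_refl_of_ortho ho, app_refl_self hu]
  have hzu : app R (app z u) = -app z u := by
    rw [← app_mul, hz R (pair_mem_omega h2 hu huv), app_mul, hRu, map_neg]
  rw [hR, app_mul, app_refl, app_refl] at hzu
  set a := ((qOdd m F u)⁻¹ * polar (qOdd m F) (app z u - ((qOdd m F v)⁻¹ * polar (qOdd m F) (app z u) v) • v) u)
  set b := (qOdd m F v)⁻¹ * polar (qOdd m F) (app z u) v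
  have h : (2 : F) • app z u = a • u + b • v := by
    rw [two_smul]
    linear_combination (norm := module) hzu
  rw [← inv_smul_smul₀ h2 (app z u), h, smul_add, smul_smul, smul_smul]
  exact Submodule.mem_span_pair.2 ⟨_, _, rfl⟩

include h2 hz in
/-- A central element fixes the line of a vector lying in two such planes. -/
theorem app_eq_smul {u v w : Unit ⊕ (Fin m ⊕ Fin m) → F} (hu : qOdd m F u ≠ 0)
    (huv : qOdd m F u = qOdd m F v) (huw : qOdd m F u = qOdd m F w) (h1 : polar (qOdd m F) u v = 0)
    (h3 : polar (qOdd m F) u w = 0) (h4 : polar (qOdd m F) v w = 0) : ∃ s : F, app z u = s • u := by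
  obtain ⟨a, b, hab⟩ := Submodule.mem_span_pair.1 (app_mem_span2 h2 hz hu huv h1)
  obtain ⟨c, d, hcd⟩ := Submodule.mem_span_pair.1 (app_mem_span2 h2 hz hu huw h3)
  have h := congrArg (fun x => polar (qOdd m F) x v) (hab.trans hcd.symm)
  simp only [polar_add_left, polar_smul_left, h1, smul_eq_mul, mul_zero, zero_add,
    polar_comm (⇑(qOdd m F)) w v, h4] at h
  have hvv : polar (qOdd m F) v v ≠ 0 := by rw [polar_self', ← huv]; exact mul_ne_zero h2 hu
  rw [(mul_eq_zero.1 h).resolve_right hvv, zero_smul, add_zero] at hab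
  exact ⟨a, hab.symm⟩

theorem exists_two_others {n : ℕ} (hn : 3 ≤ n) (i : Fin n) : ∃ j k : Fin n, j ≠ i ∧ k ≠ i ∧ j ≠ k := by
  have h : 2 ≤ (Finset.univ.erase i).card := by simp; omega
  obtain ⟨j, hj, k, hk, hjk⟩ := Finset.one_lt_card.1 h
  exact ⟨j, k, Finset.ne_of_mem_erase hj, Finset.ne_of_mem_erase hk, hjk⟩

include h2 hz in
/-- An element centralising `Ω` is a scalar. -/
theorem central_eq_smul (hm : 3 ≤ m) : ∃ c : F, ∀ x, app z x = c • x := by
  classical
  have hline : ∀ s, ∃ c : F, app z (vec F m s) = c • vec F m s := by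
    intro s
    rcases s with i | i
    · obtain ⟨j, k, hj, hk, hjk⟩ := exists_two_others (by omega : 3 ≤ m + 1) i
      exact app_eq_smul h2 hz (v := vec F m (.inl j)) (w := vec F m (.inl k)) (by rw [Q_vec]; exact val_ne _)
        (by simp [Q_vec, val]) (by simp [Q_vec, val]) (polar_vec _ _ (by simpa using hj.symm))
        (polar_vec _ _ (by simpa using hk.symm)) (polar_vec _ _ (by simpa using hjk))
    · obtain ⟨j, k, hj, hk, hjk⟩ := exists_two_others hm i
      exact app_eq_smul h2 hz (v := vec F m (.inr j)) (w := vec F m (.inr k)) (by rw [Q_vec]; exact val_ne _)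
        (by simp [Q_vec, val]) (by simp [Q_vec, val]) (polar_vec _ _ (by simpa using hj.symm))
        (polar_vec _ _ (by simpa using hk.symm)) (polar_vec _ _ (by simpa using hjk))
  choose c hc using hline
  have hmix : ∀ (p q : Fin (m + 1)) (r : Fin m), p ≠ q → c (.inl p) = c (.inr r) := by
    intro p q r hpq
    obtain ⟨o, -, ho⟩ := Finset.exists_mem_notMem_of_card_lt_card
      (s := ({p, q} : Finset (Fin (m + 1)))) (t := Finset.univ) (by
        rw [Finset.card_pair hpq, Finset.card_univ, Fintype.card_fin]; omega)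
    simp only [Finset.mem_insert, Finset.mem_singleton, not_or] at ho
    set u := vec F m (.inl p) + vec F m (.inl q) + vec F m (.inr r)
    set v := vec F m (.inl o)
    have e1 : polar (qOdd m F) (vec F m (.inl p)) (vec F m (.inl q)) = 0 := polar_vec _ _ (by simpa using hpq)
    have e2 : ∀ p : Fin (m + 1), polar (qOdd m F) (vec F m (.inl p)) (vec F m (.inr r)) = 0 :=
      fun p => polar_vec _ _ (by simp)
    have e3 : ∀ p : Fin (m + 1), p ≠ o → polar (qOdd m F) (vec F m (.inl p)) v = 0 :=
      fun p h => polar_vec _ _ (by simpa using h)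
    have e4 : polar (qOdd m F) (vec F m (.inr r)) v = 0 := polar_vec _ _ (by simp)
    have hQu : qOdd m F u = 1 := by
      simp only [u, QuadraticMap.map_add (⇑(qOdd m F)), polar_add_left, e1, e2, Q_vec, val, Sum.elim_inl,
        Sum.elim_inr]
      ring
    have hQv : qOdd m F v = 1 := by simp [v, Q_vec, val]
    have huv : polar (qOdd m F) u v = 0 := by
      simp only [u, polar_add_left, e3 p (Ne.symm ho.1), e3 q (Ne.symm ho.2), e4, add_zero]
    obtain ⟨a, b, hab⟩ := Submodule.mem_span_pair.1
      (app_mem_span2 h2 hz (by rw [hQu]; exact one_ne_zero) (hQu.trans hQv.symm) huv)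
    simp only [u, map_add, hc] at hab
    have hp := congrArg (fun x => polar (qOdd m F) x (vec F m (.inl p))) hab
    have hr := congrArg (fun x => polar (qOdd m F) x (vec F m (.inr r))) hab
    simp only [polar_add_left, polar_smul_left, smul_eq_mul, polar_vec_self, val, Sum.elim_inl, Sum.elim_inr,
      polar_comm (⇑(qOdd m F)) (vec F m (.inl q)) (vec F m (.inl p)), e1,
      polar_comm (⇑(qOdd m F)) (vec F m (.inr r)) (vec F m (.inl p)), e2,
      polar_comm (⇑(qOdd m F)) v (vec F m (.inl p)), e3 p (Ne.symm ho.1),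
      polar_comm (⇑(qOdd m F)) v (vec F m (.inr r)), e4] at hp hr
    apply mul_right_cancel₀ h2
    linear_combination -hp - hr
  have hall : ∀ s, c s = c (.inr ⟨0, by omega⟩) := by
    intro s
    rcases s with p | r
    · obtain ⟨q, k, hq, -, -⟩ := exists_two_others (by omega : 3 ≤ m + 1) p
      exact hmix p q _ hq.symm
    · have hne : (0 : Fin (m + 1)) ≠ Fin.succ ⟨0, by omega⟩ := (Fin.succ_ne_zero _).symm
      rw [← hmix 0 _ r hne, hmix 0 _ ⟨0, by omega⟩ hne]
  let b := basisOfLinearIndependentOfCardEqFinrank' (vec F m) (li_vec h2) card_idx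
  refine ⟨c (.inr ⟨0, by omega⟩), fun x => ?_⟩
  have h : app z = c (.inr ⟨0, by omega⟩) • LinearMap.id := b.ext fun s => by simp [b, hc, hall]
  rw [h]; rfl

include h2 in
theorem center_omega_eq_bot (hm : 3 ≤ m) : Subgroup.center (commutator (O (qOdd m F))) = ⊥ := by
  rw [Subgroup.eq_bot_iff_forall]
  intro z hz
  obtain ⟨c, hc⟩ := central_eq_smul h2 (z := (z : O (qOdd m F)))
    (fun g hg => congrArg Subtype.val (Subgroup.mem_center_iff.1 hz ⟨g, hg⟩)) hm
  apply Subtype.ext
  apply ext_app
  intro x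
  have hc2 : c * c = 1 := by
    have h := Q_app (z : O (qOdd m F)) (vec F m (.inl 0))
    rw [hc, QuadraticMap.map_smul, Q_vec] at h
    simpa [val] using h
  have hdet : detHom (qOdd m F) (z : O (qOdd m F)) = 1 :=
    MonoidHom.mem_ker.1 (Abelianization.commutator_subset_ker _ z.2)
  have hmat : (((z : O (qOdd m F)) : Matrix.GeneralLinearGroup (Unit ⊕ (Fin m ⊕ Fin m)) F) :
      Matrix (Unit ⊕ (Fin m ⊕ Fin m)) (Unit ⊕ (Fin m ⊕ Fin m)) F) = c • 1 := by
    refine Matrix.toLin'.injective (LinearMap.ext fun y => ?_)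
    simpa [app_apply] using hc y
  have hc1 : c = 1 := by
    have h := congrArg Units.val hdet
    change Matrix.det (((z : O (qOdd m F)) : Matrix.GeneralLinearGroup (Unit ⊕ (Fin m ⊕ Fin m)) F) :
      Matrix (Unit ⊕ (Fin m ⊕ Fin m)) (Unit ⊕ (Fin m ⊕ Fin m)) F) = 1 at h
    rw [hmat, Matrix.det_smul, Matrix.det_one, mul_one] at h
    have hcard : Fintype.card (Unit ⊕ (Fin m ⊕ Fin m)) = 2 * m + 1 := by simp; omega
    rw [hcard, pow_succ, pow_mul, pow_two, hc2, one_pow, one_mul] at h
    exact h
  rw [hc, hc1, one_smul]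
  simp

/-- The first `a` vectors of value `1` and the first `b` of value `-1`. -/
def negSet (m a b : ℕ) : Finset (Idx m) :=
  Finset.disjSum (Finset.univ.filter fun i : Fin (m + 1) => (i : ℕ) < a)
    (Finset.univ.filter fun i : Fin m => (i : ℕ) < b)

theorem card_negSet {a b : ℕ} (ha : a ≤ m + 1) (hb : b ≤ m) : (negSet m a b).card = a + b := by
  rw [negSet, Finset.card_disjSum, Fin.card_filter_val_lt, Fin.card_filter_val_lt]
  omega

include h2 in
/-- An involution of `Ω` with fixed space of codimension `2 t`. -/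
theorem exists_involution (t : ℕ) (ht : t ≤ m) :
    ∃ g : O (qOdd m F), g ∈ commutator (O (qOdd m F)) ∧ g * g = 1 ∧
      Module.finrank F (fixS g) + 2 * t = 2 * m + 1 := by
  classical
  obtain ⟨d, hd⟩ := CfsgLib.OrthOmega.exists_not_square h2
  set a := 2 * min t ((m + 1) / 2) with ha
  set b := 2 * t - a with hb
  have ha' : a ≤ m + 1 := by omega
  have hb' : b ≤ m := by omega
  set S := negSet m a b with hS
  have hSc : S.card = 2 * t := by rw [hS, card_negSet ha' hb']; omega
  have hv : ∀ s, qOdd m F (vec F m s) ≠ 0 := fun s => by rw [Q_vec]; exact val_ne s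
  obtain ⟨g, hg, hfix, hgc⟩ := exists_neg_on (vec F m) hv polar_vec d S
  let B := basisOfLinearIndependentOfCardEqFinrank' (vec F m) (li_vec h2) card_idx
  have hgv : ∀ s, app g (vec F m s) = if s ∈ S then -vec F m s else vec F m s := by
    intro s
    split_ifs with hs
    · exact hg s hs
    · exact hfix _ fun i hi => polar_vec _ _ (by rintro rfl; exact hs hi)
  refine ⟨g, ?_, ?_, ?_⟩
  · rw [CfsgLib.OrthOmega.mem_omega_odd (qOdd_nondegenerate h2) h2 hd, hgc, hS, negSet, Finset.prod_disjSum]
    have hconst : ∀ i : Fin (m + 1), chiPair (qOdd m F) d (refl (qOdd m F) (vec F m (.inl i))) =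
        chiPair (qOdd m F) d (refl (qOdd m F) (vec F m (.inl 0))) := fun i => by
      rw [chiPair_refl h2 hd (hv _), chiPair_refl h2 hd (hv _), Q_vec, Q_vec]; rfl
    have hconst' : ∀ i j : Fin m, chiPair (qOdd m F) d (refl (qOdd m F) (vec F m (.inr i))) =
        chiPair (qOdd m F) d (refl (qOdd m F) (vec F m (.inr j))) := fun i j => by
      rw [chiPair_refl h2 hd (hv _), chiPair_refl h2 hd (hv _), Q_vec, Q_vec]; rfl
    have ea : Even (min (m + 1) a) := ⟨min t ((m + 1) / 2), by omega⟩
    have eb : Even (min m b) := ⟨t - min t ((m + 1) / 2), by omega⟩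
    have key : ∀ (p : ℤˣ × ℤˣ) (n : ℕ), Even n → p ^ n = 1 := by
      rintro p n ⟨k, rfl⟩
      rw [pow_add, ← mul_pow]
      rcases Int.units_eq_one_or p.1 with h | h <;> rcases Int.units_eq_one_or p.2 with h' | h' <;>
        simp [Prod.ext_iff, h, h']
    rcases Nat.eq_zero_or_pos m with hm0 | hm0
    · subst hm0
      simp [show a = 0 by omega, show b = 0 by omega]
    rw [Finset.prod_congr rfl (fun i _ => hconst i), Finset.prod_congr rfl (fun i _ => hconst' i ⟨0, hm0⟩),
      Finset.prod_const, Finset.prod_const, Fin.card_filter_val_lt, Fin.card_filter_val_lt,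
      key _ _ ea, key _ _ eb, one_mul]
  · apply ext_app
    have h : (app g).comp (app g) = LinearMap.id := B.ext fun s => by
      simp only [B, coe_basisOfLinearIndependentOfCardEqFinrank', LinearMap.comp_apply, LinearMap.id_apply, hgv]
      split_ifs with hs <;> simp [hgv, hs]
    intro x
    rw [app_mul, app_one]
    exact LinearMap.congr_fun h x
  · set P := Submodule.span F (Set.range fun s : {s // s ∈ Sᶜ} => vec F m s)
    set N := Submodule.span F (Set.range fun s : {s // s ∈ S} => vec F m s)
    have hP : P ≤ fixS g := by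
      rw [Submodule.span_le]; rintro _ ⟨⟨s, hs⟩, rfl⟩
      rw [SetLike.mem_coe, mem_fixS, hgv, if_neg (Finset.mem_compl.1 hs)]
    have hN : N ≤ LinearMap.ker (app g + LinearMap.id) := by
      rw [Submodule.span_le]; rintro _ ⟨⟨s, hs⟩, rfl⟩
      simp [hgv, hs]
    have hdisj : Disjoint (fixS g) (LinearMap.ker (app g + LinearMap.id)) := by
      rw [Submodule.disjoint_def]
      intro x hx hx'
      rw [LinearMap.mem_ker, LinearMap.add_apply, LinearMap.id_apply, mem_fixS.1 hx, ← two_smul F] at hx'
      exact (smul_eq_zero.1 hx').resolve_left h2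
    have hdP : Module.finrank F P = Sᶜ.card := by
      exact (finrank_span_eq_card (ι := {s // s ∈ Sᶜ}) ((li_vec h2).comp _ Subtype.val_injective)).trans
        (Fintype.card_coe _)
    have hdN : Module.finrank F N = S.card := by
      exact (finrank_span_eq_card (ι := {s // s ∈ S}) ((li_vec h2).comp _ Subtype.val_injective)).trans
        (Fintype.card_coe _)
    have h1 := Submodule.finrank_add_finrank_le_of_disjoint hdisj
    have h3 := Submodule.finrank_mono hP
    have h4 := Submodule.finrank_mono hN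
    have hn : Fintype.card (Idx m) = 2 * m + 1 := by simp; omega
    rw [← card_idx, hn] at h1
    rw [Finset.card_compl, hn] at hdP
    have : 2 * t ≤ 2 * m + 1 := by omega
    omega

/-- The fixed space of a conjugate has the same dimension. -/
theorem finrank_fix_conj (g h : O (qOdd m F)) :
    Module.finrank F (fixS (h * g * h⁻¹)) = Module.finrank F (fixS g) := by
  let e : (Unit ⊕ (Fin m ⊕ Fin m) → F) ≃ₗ[F] (Unit ⊕ (Fin m ⊕ Fin m) → F) :=
    LinearEquiv.ofLinearMap (app h) (app h⁻¹) (LinearMap.ext (app_app_inv h)) (LinearMap.ext (app_inv_app h))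
  have : fixS (h * g * h⁻¹) = (fixS g).map e.toLinearMap := by
    ext x
    rw [Submodule.mem_map_equiv, mem_fixS, mem_fixS, app_mul, app_mul]
    show app h (app g (app h⁻¹ x)) = x ↔ app g (app h⁻¹ x) = app h⁻¹ x
    exact ⟨fun hx => app_injective h (by rw [hx]; exact (app_app_inv h x).symm),
      fun hx => (congrArg (app h) hx).trans (app_app_inv h x)⟩
  rw [this, LinearEquiv.finrank_map_eq]

include h2 in
/-- `PΩ_{2m+1}` has `m` pairwise non-conjugate involutions. -/
theorem exists_involutions (hm : 3 ≤ m) : ∃ y : Fin m → Cfsg.POmega F (Cfsg.quadFormOdd m F),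
    (∀ i, y i ≠ 1 ∧ y i * y i = 1) ∧ ∀ i j, IsConj (y i) (y j) → i = j := by
  rw [← qOdd_coe (F := F)]
  choose g hg hgg hfix using fun i : Fin m => exists_involution h2 (m := m) (i + 1) i.2
  refine ⟨fun i => QuotientGroup.mk ⟨g i, hg i⟩, fun i => ⟨fun h => ?_, ?_⟩, fun i j h => ?_⟩
  · rw [QuotientGroup.eq_one_iff, center_omega_eq_bot h2 hm, Subgroup.mem_bot] at h
    have h' : g i = 1 := congrArg Subtype.val h
    have := hfix i
    rw [h', show fixS (1 : O (qOdd m F)) = ⊤ from Submodule.eq_top_iff'.2 fun x => mem_fixS.2 (app_one x),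
      finrank_top, ← card_idx] at this
    simp at this
    omega
  · rw [← QuotientGroup.mk_mul, show (⟨g i, hg i⟩ : commutator (O (qOdd m F))) * ⟨g i, hg i⟩ = 1 from
      Subtype.ext (hgg i)]
    rfl
  · obtain ⟨c, hc⟩ := isConj_iff.1 h
    obtain ⟨⟨c, hc'⟩, rfl⟩ := QuotientGroup.mk_surjective c
    rw [← QuotientGroup.mk_inv, ← QuotientGroup.mk_mul, ← QuotientGroup.mk_mul, QuotientGroup.eq,
      center_omega_eq_bot h2 hm, Subgroup.mem_bot, inv_mul_eq_one] at hc
    have h1 : c * g i * c⁻¹ = g j := congrArg Subtype.val hc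
    have h3 := finrank_fix_conj (g i) c
    rw [h1] at h3
    have := hfix i
    have := hfix j
    exact Fin.ext (by omega)

end CfsgLib.OrthOddInv
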