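/-
The deleted permutation module of the symmetric group, and the symmetric group as an orthogonal group.
-/
import Cfsg.Agent.Lib.Orth.Basic

set_option autoImplicit false
set_option linter.unusedSectionVars false

namespace CfsgLib.Orth

open Matrix QuadraticMap

variable {ι : Type} [Fintype ι] [DecidableEq ι] {F : Type*} [Field F] {m : ℕ}

/-- coordinates `φ`, `ψ` for the sum-zero vectors of `F^m` modulo constants -/
structure PermCoords (ι : Type) [Fintype ι] [DecidableEq ι] (F : Type*) [Field F] (m : ℕ) where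
  φ : (Fin m → F) →ₗ[F] (ι → F)
  ψ : (ι → F) →ₗ[F] (Fin m → F)
  φ_ψ : ∀ v, φ (ψ v) = v
  sum_ψ : ∀ v, ∑ i, ψ v i = 0
  const : ∀ x : Fin m → F, ∑ i, x i = 0 → φ x = 0 → ∀ i j, x i = x j

namespace PermCoords

variable (C : PermCoords ι F m)

/-- the action of a permutation on `ι → F` -/
def rep (σ : Equiv.Perm (Fin m)) : (ι → F) →ₗ[F] (ι → F) :=
  C.φ.comp ((LinearMap.funLeft F F ⇑σ.symm).comp C.ψ)

theorem rep_apply (σ : Equiv.Perm (Fin m)) (v : ι → F) :
    C.rep σ v = C.φ (fun i => C.ψ v (σ.symm i)) := rfl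

theorem rep_mul (σ τ : Equiv.Perm (Fin m)) (v : ι → F) :
    C.rep (σ * τ) v = C.rep σ (C.rep τ v) := by
  have hc : ∀ x : Fin m → F, ∑ i, x i = 0 → C.φ x = 0 → C.φ (fun i => x (σ.symm i)) = 0 :=
    fun x hx h0 => by
      rw [show (fun i => x (σ.symm i)) = x from funext fun i => C.const x hx h0 _ _, h0]
  have hy : ∑ i, C.ψ v (τ.symm i) = 0 := by
    rw [Equiv.sum_comp τ.symm (C.ψ v)]; exact C.sum_ψ v
  set y : Fin m → F := fun i => C.ψ v (τ.symm i) with hydef
  have h1 := hc (C.ψ (C.φ y) - y) (by simp [Finset.sum_sub_distrib, C.sum_ψ, hy])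
    (by rw [map_sub, C.φ_ψ, sub_self])
  rw [rep_apply, rep_apply, rep_apply]
  refine (sub_eq_zero.1 ?_).symm
  rw [← map_sub]
  exact h1

theorem rep_one (v : ι → F) : C.rep 1 v = v := by
  rw [rep_apply]; exact C.φ_ψ v

/-- the matrix representation -/
noncomputable def toGL : Equiv.Perm (Fin m) →* Matrix.GeneralLinearGroup ι F :=
  MonoidHom.toHomUnits
    { toFun := fun σ => LinearMap.toMatrix' (C.rep σ)
      map_one' := by
        rw [show C.rep 1 = LinearMap.id from LinearMap.ext C.rep_one, LinearMap.toMatrix'_id]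
      map_mul' := fun σ τ => by
        rw [show C.rep (σ * τ) = (C.rep σ).comp (C.rep τ) from LinearMap.ext (C.rep_mul σ τ),
          LinearMap.toMatrix'_comp] }

theorem toGL_mulVec (σ : Equiv.Perm (Fin m)) (v : ι → F) :
    ((C.toGL σ : Matrix.GeneralLinearGroup ι F) : Matrix ι ι F) *ᵥ v = C.rep σ v :=
  LinearMap.toMatrix'_mulVec (C.rep σ) v

theorem toGL_injective (hm : 3 ≤ m) (hm' : 5 ≤ m ∨ (m : F) ≠ 0) : Function.Injective C.toGL := by
  rw [injective_iff_map_eq_one]
  intro σ hσ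
  have hrep : ∀ v, C.rep σ v = v := fun v => by
    rw [← C.toGL_mulVec, hσ, Units.val_one, Matrix.one_mulVec]
  -- every sum-zero vector moves by a constant
  have hconst : ∀ y : Fin m → F, ∑ i, y i = 0 → ∀ i j,
      y (σ.symm i) - y i = y (σ.symm j) - y j := fun y hy => by
    have hsum : ∑ i, y (σ.symm i) = 0 := by rw [Equiv.sum_comp σ.symm y]; exact hy
    have hc : ∀ i j, (C.ψ (C.φ y) - y) i = (C.ψ (C.φ y) - y) j :=
      C.const _ (by simp [Finset.sum_sub_distrib, C.sum_ψ, hy]) (by rw [map_sub, C.φ_ψ, sub_self])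
    refine C.const (fun i => y (σ.symm i) - y i) (by simp [Finset.sum_sub_distrib, hsum, hy]) ?_
    have e : (fun i => y (σ.symm i) - y i) = (fun i => C.ψ (C.φ y) (σ.symm i)) - C.ψ (C.φ y) := by
      funext i
      have := hc (σ.symm i) i
      simp only [Pi.sub_apply] at this ⊢
      linear_combination -this
    rw [e, map_sub, ← rep_apply, C.φ_ψ, hrep, sub_self]
  refine Equiv.ext fun a => ?_
  by_contra ha
  rw [Equiv.Perm.one_apply] at ha
  obtain ⟨b, hb⟩ : ∃ b, b ∉ ({a, σ a} : Finset (Fin m)) :=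
    Finset.exists_mem_notMem_of_card_lt_card (t := Finset.univ)
      (lt_of_le_of_lt Finset.card_le_two (by simp; omega)) |>.imp fun _ h => h.2
  simp only [Finset.mem_insert, Finset.mem_singleton, not_or] at hb
  set y : Fin m → F := Pi.single a 1 - Pi.single b 1 with hy
  have hy0 : ∑ i, y i = 0 := by simp [hy, Finset.sum_sub_distrib]
  have h0 : ∀ i, y (σ.symm i) - y i = 0 := by
    rcases hm' with h5 | hmF
    · obtain ⟨j, hj⟩ : ∃ j, j ∉ ({a, b, σ a, σ b} : Finset (Fin m)) :=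
        Finset.exists_mem_notMem_of_card_lt_card (t := Finset.univ)
          (lt_of_le_of_lt Finset.card_le_four (by simp; omega)) |>.imp fun _ h => h.2
      simp only [Finset.mem_insert, Finset.mem_singleton, not_or] at hj
      have h1 : σ.symm j ≠ a := fun h => hj.2.2.1 (by rw [← h, Equiv.apply_symm_apply])
      have h2 : σ.symm j ≠ b := fun h => hj.2.2.2 (by rw [← h, Equiv.apply_symm_apply])
      intro i
      rw [hconst y hy0 i j]
      simp [hy, h1, h2, hj.1, hj.2.1]
    · intro i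
      have hs : ∑ j, (y (σ.symm j) - y j) = 0 := by
        rw [Finset.sum_sub_distrib, Equiv.sum_comp σ.symm y, sub_self]
      rw [Finset.sum_congr rfl fun j _ => hconst y hy0 j i, Finset.sum_const, Finset.card_univ,
        Fintype.card_fin, nsmul_eq_mul] at hs
      exact (mul_eq_zero.1 hs).resolve_left hmF
  have := h0 (σ a)
  simp [hy, ha, Ne.symm hb.1, Ne.symm hb.2] at this

variable {C} {Q : QuadraticForm F (ι → F)}

/-- the hypothesis that transpositions act as reflections -/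
def SwapRefl (C : PermCoords ι F m) (Q : QuadraticForm F (ι → F)) : Prop :=
  ∀ a b : Fin m, a ≠ b → ∀ v,
    C.rep (Equiv.swap a b) v =
      v - ((Q (C.φ (Pi.single a 1 - Pi.single b 1)))⁻¹ *
        polar Q v (C.φ (Pi.single a 1 - Pi.single b 1))) • C.φ (Pi.single a 1 - Pi.single b 1)

theorem toGL_mem (hs : SwapRefl C Q) (σ : Equiv.Perm (Fin m)) : C.toGL σ ∈ O Q := by
  induction σ using Equiv.Perm.swap_induction_on with
  | one => rw [map_one]; exact Subgroup.one_mem _
  | swap_mul f x y hxy hf =>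
    rw [map_mul]
    refine Subgroup.mul_mem _ ?_ hf
    intro u _
    show Q (_ *ᵥ u) = Q u
    rw [Units.coeHom_apply, toGL_mulVec, hs x y hxy, ← app_refl, Q_app]

/-- the homomorphism into the orthogonal group -/
noncomputable def toO (hs : SwapRefl C Q) : Equiv.Perm (Fin m) →* O Q :=
  C.toGL.codRestrict (O Q) (toGL_mem hs)

theorem app_toO (hs : SwapRefl C Q) (σ : Equiv.Perm (Fin m)) (v : ι → F) :
    app (toO hs σ) v = C.rep σ v := toGL_mulVec C σ v

theorem toO_swap (hs : SwapRefl C Q) {a b : Fin m} (hab : a ≠ b) :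
    toO hs (Equiv.swap a b) = refl Q (C.φ (Pi.single a 1 - Pi.single b 1)) :=
  ext_app fun v => by rw [app_toO, app_refl, hs a b hab]

theorem toO_injective (hs : SwapRefl C Q) (hm : 3 ≤ m) (hm' : 5 ≤ m ∨ (m : F) ≠ 0) :
    Function.Injective (toO hs) := fun _ _ h =>
  C.toGL_injective hm hm' (congrArg Subtype.val h)

theorem toO_bijective (hs : SwapRefl C Q) (hm : 5 ≤ m) (hgen : reflClosure Q = ⊤)
    (hrefl : ∀ v, Q v ≠ 0 → ∃ a b : Fin m, a ≠ b ∧ v = C.φ (Pi.single a 1 - Pi.single b 1)) :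
    Function.Bijective (toO hs) := by
  refine ⟨toO_injective hs (by omega) (Or.inl hm), fun g => ?_⟩
  have : reflClosure Q ≤ (toO hs).range := by
    rw [reflClosure, Subgroup.closure_le]
    rintro _ ⟨v, rfl⟩
    rcases eq_or_ne (Q v) 0 with h | h
    · rw [refl_eq_one h]; exact Subgroup.one_mem _
    · obtain ⟨a, b, hab, rfl⟩ := hrefl v h
      exact ⟨_, toO_swap hs hab⟩
  exact this (hgen.symm ▸ Subgroup.mem_top g)

end PermCoords

/-- isometry groups along an isomorphism of fields -/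
def isometryGroupCongr {K : Type*} [Field K] (e : K ≃+* F) (Q₁ : (ι → K) → K) (Q₂ : (ι → F) → F)
    (h : ∀ v, Q₂ (⇑e ∘ v) = e (Q₁ v)) :
    Cfsg.isometryGroup K Q₁ ≃* Cfsg.isometryGroup F Q₂ :=
  let E : Matrix.GeneralLinearGroup ι K ≃* Matrix.GeneralLinearGroup ι F :=
    Units.mapEquiv e.mapMatrix.toMulEquiv
  (E.subgroupMap _).trans (MulEquiv.subgroupCongr (by
    have hE : ∀ (g : Matrix.GeneralLinearGroup ι K) (v : ι → K),
        (E g : Matrix ι ι F) *ᵥ (⇑e ∘ v) = ⇑e ∘ ((g : Matrix ι ι K) *ᵥ v) := fun g v =>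
      funext fun i => (RingHom.map_mulVec e.toRingHom (g : Matrix ι ι K) v i).symm
    ext g
    obtain ⟨g, rfl⟩ := E.surjective g
    refine ⟨?_, fun hg => ⟨g, ?_, rfl⟩⟩
    · rintro ⟨g', hg', he⟩ w _
      obtain rfl := E.injective he
      obtain ⟨v, rfl⟩ : ∃ v, ⇑e ∘ v = w := ⟨⇑e.symm ∘ w, funext fun i => e.apply_symm_apply _⟩
      show Q₂ (_ *ᵥ (⇑e ∘ v)) = Q₂ (⇑e ∘ v)
      rw [Units.coeHom_apply, hE, h, h]
      exact congrArg e (hg' v v)
    · intro v _
      apply e.injective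
      show e (Q₁ ((g : Matrix ι ι K) *ᵥ v)) = e (Q₁ v)
      rw [← h, ← h, ← hE]
      exact hg (⇑e ∘ v) (⇑e ∘ v)))

end CfsgLib.Orth
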