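/-
The subgroup generated by the reflections of one square class has index two.
-/
import Cfsg.Agent.Lib.Orth.Siegel
import Cfsg.Agent.Lib.Orth.SO

set_option autoImplicit false
set_option linter.unusedSectionVars false

namespace CfsgLib.Orth

open Matrix QuadraticMap

variable {ι : Type} [Fintype ι] [DecidableEq ι] {F : Type*} [Field F] {Q : QuadraticForm F (ι → F)}
variable (hQ : Q.polarBilin.Nondegenerate) (h2 : (2 : F) ≠ 0)
include hQ h2

/-- an improper isometry of an anisotropic-based plane, extended by the identity, is an involution -/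
theorem plane_involution {u b : ι → F} (hu : Q u ≠ 0) (hb : Q b ≠ 0) (hub : polar Q u b = 0)
    (g : O Q) (hdet : detHom Q g = -1)
    (hfix : ∀ x, polar Q x u = 0 → polar Q x b = 0 → app g x = x) : g * g = 1 := by
  have hbu : polar Q b u = 0 := by rw [polar_comm, hub]
  -- projection of a vector
  have hdec : ∀ y : ι → F, ∃ (s t : F) (r : ι → F), y = s • u + t • b + r ∧ polar Q r u = 0 ∧
      polar Q r b = 0 := fun y => by
    refine ⟨polar Q y u / (2 * Q u), polar Q y b / (2 * Q b),
      y - (polar Q y u / (2 * Q u)) • u - (polar Q y b / (2 * Q b)) • b, by abel, ?_, ?_⟩ <;>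
    · simp only [polar_sub_left, polar_smul_left, polar_self', hub, hbu, smul_eq_mul, mul_zero,
        sub_zero]
      rw [div_mul_cancel₀ _ (by simp [h2, hu, hb]), sub_self]
  -- the image of `u` stays in the plane
  obtain ⟨s, t, r, hx, hru, hrb⟩ := hdec (app g u)
  have hr : r = 0 := by
    refine eq_zero_of_polar hQ fun y => ?_
    obtain ⟨s', t', r', rfl, hr'u, hr'b⟩ := hdec y
    have h1 : polar Q r r' = 0 := by
      have e1 : polar Q (app g u) r' = 0 := by
        rw [← hfix r' hr'u hr'b, polar_app, polar_comm, hr'u]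
      rw [hx, polar_add_left, polar_add_left, polar_smul_left, polar_smul_left,
        polar_comm (f := ⇑Q) u r', hr'u, polar_comm (f := ⇑Q) b r', hr'b] at e1
      simpa using e1
    simp [polar_add_right, polar_smul_right, hru, hrb, h1]
  rw [hr, add_zero] at hx
  -- an element fixing `u` and `{u,b}^⊥` is `1` or `r_b`
  have hcore : ∀ k : O Q, app k u = u → (∀ x, polar Q x u = 0 → polar Q x b = 0 → app k x = x) →
      k = 1 ∨ k = refl Q b := by
    intro k hku hkfix
    obtain ⟨s₁, t₁, r₁, hkb, hr₁u, hr₁b⟩ := hdec (app k b)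
    have hr₁ : r₁ = 0 := by
      refine eq_zero_of_polar hQ fun y => ?_
      obtain ⟨s', t', r', rfl, hr'u, hr'b⟩ := hdec y
      have h1 : polar Q r₁ r' = 0 := by
        have e1 : polar Q (app k b) r' = 0 := by
          rw [← hkfix r' hr'u hr'b, polar_app, polar_comm, hr'b]
        rw [hkb, polar_add_left, polar_add_left, polar_smul_left, polar_smul_left,
          polar_comm (f := ⇑Q) u r', hr'u, polar_comm (f := ⇑Q) b r', hr'b] at e1
        simpa using e1
      simp [polar_add_right, polar_smul_right, hr₁u, hr₁b, h1]
    rw [hr₁, add_zero] at hkb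
    have hs₁ : s₁ = 0 := by
      have e1 : polar Q (app k b) u = 0 := by
        nth_rewrite 1 [← hku]; rw [polar_app, hbu]
      rw [hkb, polar_add_left, polar_smul_left, polar_smul_left, polar_self', hbu] at e1
      simpa [h2, hu] using e1
    rw [hs₁, zero_smul, zero_add] at hkb
    have ht₁ : t₁ = 1 ∨ t₁ = -1 := by
      have e1 := Q_app k b
      rw [hkb, QuadraticMap.map_smul, smul_eq_mul] at e1
      have h' : (t₁ - 1) * (t₁ + 1) = 0 := by
        refine (mul_eq_zero.1 (show (t₁ - 1) * (t₁ + 1) * Q b = 0 from ?_)).resolve_right hb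
        linear_combination e1
      rcases mul_eq_zero.1 h' with h | h
      · exact Or.inl (sub_eq_zero.1 h)
      · exact Or.inr (eq_neg_of_add_eq_zero_left h)
    rcases ht₁ with rfl | rfl
    · refine Or.inl (ext_app fun y => ?_)
      obtain ⟨s', t', r', rfl, hr'u, hr'b⟩ := hdec y
      simp [hku, hkb, hkfix r' hr'u hr'b]
    · refine Or.inr (ext_app fun y => ?_)
      obtain ⟨s', t', r', rfl, hr'u, hr'b⟩ := hdec y
      simp [hku, hkb, hkfix r' hr'u hr'b, app_refl_of_ortho hr'b, app_refl_of_ortho hub,
        app_refl_self hb]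
  rcases eq_or_ne (app g u) u with hgu | hgu
  · rcases hcore g hgu hfix with rfl | rfl
    · simp
    · exact refl_mul_self b
  · set z := app g u - u with hz
    have hQz : Q z = 2 * Q u - polar Q (app g u) u := by
      rw [hz, sub_eq_add_neg, QuadraticMap.map_add ⇑Q, QuadraticMap.map_neg, Q_app, polar_neg_right]
      ring
    have hz0 : Q z ≠ 0 := by
      intro h0
      apply hgu
      have e1 : s = 1 := by
        rw [hQz, hx, polar_add_left, polar_smul_left, polar_smul_left, polar_self', hbu] at h0
        have : (1 - s) * (2 * Q u) = 0 := by simp only [smul_eq_mul] at h0; linear_combination h0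
        rcases mul_eq_zero.1 this with h | h
        · exact (sub_eq_zero.1 h).symm
        · exact absurd h (mul_ne_zero h2 hu)
      have e2 := Q_app g u
      rw [hx, e1, one_smul, QuadraticMap.map_add ⇑Q, QuadraticMap.map_smul, polar_smul_right, hub,
        smul_eq_mul, smul_eq_mul, mul_zero, add_zero, add_eq_left, mul_eq_zero] at e2
      rw [hx, e1, one_smul, (mul_self_eq_zero.1 (e2.resolve_right hb)), zero_smul, add_zero]
    have happ : app (refl Q z) (app g u) = u := by
      have hval : (Q z)⁻¹ * polar Q (app g u) z = 1 := by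
        rw [inv_mul_eq_one₀ hz0, hQz, hz, polar_sub_right, polar_self', Q_app]
      rw [app_refl, hval, one_smul, hz]; abel
    have hzfix : ∀ x, polar Q x u = 0 → polar Q x b = 0 → app (refl Q z * g) x = x := by
      intro x hxu hxb
      rw [app_mul, hfix x hxu hxb, app_refl_of_ortho]
      rw [hz, hx]
      simp [polar_sub_right, polar_add_right, polar_smul_right, hxu, hxb]
    rcases hcore (refl Q z * g) (by rw [app_mul, happ]) hzfix with h | h
    · have : g = refl Q z := by
        rw [eq_inv_of_mul_eq_one_right h, refl_inv]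
      rw [this, refl_mul_self]
    · exfalso
      have e := congrArg (detHom Q) h
      rw [map_mul, detHom_refl hz0, detHom_refl hb, hdet] at e
      have : (1 : F) = -1 := by simpa using congrArg Units.val e
      exact h2 (by linear_combination this)

variable [Fintype F] [DecidableEq F]

/-- if `H` is normal and contains all reflections of value `c`, it contains the product of two reflections
of equal value spanning a non-degenerate plane -/
theorem pair_mem_of_plane {c : F} (hc : c ≠ 0) (H : Subgroup (O Q)) [H.Normal]
    (hH : ∀ z, Q z = c → refl Q z ∈ H) {u v : ι → F} (hu : Q u ≠ 0) (huv : Q u = Q v)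
    (hne : polar Q u v ≠ 2 * Q u) (hne' : polar Q u v ≠ -(2 * Q u)) :
    refl Q u * refl Q v ∈ H := by
  have h2a : 2 * Q u ≠ 0 := mul_ne_zero h2 hu
  set k := polar Q u v / (2 * Q u) with hk
  have hka : k * (2 * Q u) = polar Q u v := div_mul_cancel₀ _ h2a
  set b := v - k • u with hbdef
  have hub : polar Q u b = 0 := by
    rw [hbdef, polar_sub_right, polar_smul_right, polar_self', smul_eq_mul, hka, sub_self]
  have hQb : Q b = Q u * (1 - k ^ 2) := by
    simp only [hbdef, sub_eq_add_neg v, ← neg_smul, QuadraticMap.map_add ⇑Q, QuadraticMap.map_smul,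
      polar_smul_right, polar_comm (f := ⇑Q) v u, smul_eq_mul, ← huv]
    linear_combination k * hka
  have hb : Q b ≠ 0 := by
    rw [hQb]
    refine mul_ne_zero hu fun hk1 => ?_
    rcases mul_eq_zero.1 (show (1 - k) * (1 + k) = 0 by linear_combination hk1) with h | h
    · exact hne (by rw [← hka, ← sub_eq_zero.1 h, one_mul])
    · exact hne' (by rw [← hka, eq_neg_of_add_eq_zero_right h, neg_one_mul])
  obtain ⟨p, r, hpr⟩ := exists_binary h2 hu hb c
  set z := p • u + r • b with hzdef
  have hz : Q z = c := by
    simp only [hzdef, QuadraticMap.map_add ⇑Q, QuadraticMap.map_smul, polar_smul_left,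
      polar_smul_right, hub, smul_eq_mul]
    linear_combination hpr
  -- a square root of `r_u r_v` in the rotations of the plane
  have hQp : Q (u + v) = 2 * Q u + polar Q u v := by
    rw [QuadraticMap.map_add ⇑Q, ← huv]; ring
  have hw : Q (u + v) ≠ 0 := by
    rw [hQp]; intro h; exact hne' (by linear_combination h)
  set w := u + v with hwdef
  set ρ := refl Q u * refl Q w
  have hsq : ρ * ρ = refl Q u * refl Q v := by
    have hval : (Q w)⁻¹ * polar Q u w = 1 := by
      rw [inv_mul_eq_one₀ hw, hQp, hwdef, polar_add_right, polar_self']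
    have happ : app (refl Q w) u = -v := by
      rw [app_refl, hval, one_smul, hwdef]; abel
    have := refl_conj (refl Q w) u
    rw [refl_inv, happ, refl_neg] at this
    rw [← this]; simp only [ρ]; group
  have hzQ : Q z ≠ 0 := by rwa [hz]
  have hinv : refl Q z * ρ⁻¹ * refl Q z = ρ := by
    have hdet : detHom Q (refl Q z * (refl Q w * refl Q u)) = -1 := by
      rw [map_mul, map_mul, detHom_refl hzQ, detHom_refl hw, detHom_refl hu]; simp
    have hinvol := plane_involution hQ h2 hu hb hub _ hdet fun x hxu hxb => by
      have hxv : polar Q x v = 0 := by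
        have : v = b + k • u := by rw [hbdef]; abel
        rw [this, polar_add_right, polar_smul_right, hxu, hxb, smul_zero, add_zero]
      rw [app_mul, app_mul, app_refl_of_ortho hxu,
        app_refl_of_ortho (v := w) (by rw [hwdef, polar_add_right, hxu, hxv, add_zero]),
        app_refl_of_ortho (by simp [hzdef, polar_add_right, polar_smul_right, hxu, hxb])]
    have hρ : ρ⁻¹ = refl Q w * refl Q u := by simp only [ρ, _root_.mul_inv_rev, refl_inv]
    rw [hρ]
    have h := inv_eq_of_mul_eq_one_right hinvol
    simp only [_root_.mul_inv_rev, refl_inv] at h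
    calc refl Q z * (refl Q w * refl Q u) * refl Q z
        = (refl Q z * (refl Q w * refl Q u)) * refl Q z := rfl
      _ = refl Q u * refl Q w * refl Q z * refl Q z := by rw [← h]
      _ = refl Q u * refl Q w := by rw [mul_assoc, refl_mul_self, mul_one]
  have hmem : ρ * refl Q z * ρ⁻¹ * refl Q z ∈ H :=
    mul_mem (Subgroup.Normal.conj_mem inferInstance _ (hH z hz) ρ) (hH z hz)
  rwa [show ρ * refl Q z * ρ⁻¹ * refl Q z = ρ * (refl Q z * ρ⁻¹ * refl Q z) by group, hinv, hsq]
    at hmem

theorem pair_mem_of_class {c : F} (hc : c ≠ 0) (H : Subgroup (O Q)) [H.Normal]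
    (hH : ∀ z, Q z = c → refl Q z ∈ H) (hbig : 5 ≤ Fintype.card ι ∨ Fintype.card F ≠ 3 ∨ Fintype.card ι ≤ 2)
    {u v : ι → F} (hu : Q u ≠ 0) (huv : Q u = Q v) : refl Q u * refl Q v ∈ H := by
  have hplane := fun {u v : ι → F} => pair_mem_of_plane hQ h2 hc H hH (u := u) (v := v)
  have hplus : ∀ v : ι → F, Q u = Q v → polar Q u v = 2 * Q u → refl Q u * refl Q v ∈ H := by
    intro v huv hf
    set z := v - u with hzdef
    rcases eq_or_ne z 0 with hz0 | hz0
    · rw [sub_eq_zero.1 hz0, refl_mul_self]; exact H.one_mem
    have hz : Q z = 0 := by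
      rw [hzdef, sub_eq_add_neg, QuadraticMap.map_add ⇑Q, QuadraticMap.map_neg, polar_neg_right,
        polar_comm, hf, ← huv]
      ring
    have huz : polar Q u z = 0 := by rw [hzdef, polar_sub_right, hf, polar_self', sub_self]
    by_cases hsmall : Fintype.card ι ≤ 2
    · -- in a plane `u^⊥` is an anisotropic line, so `z = 0`
      exfalso
      apply hz0
      have hzz : polar Q z z = 0 := by rw [polar_self', hz, mul_zero]
      have hu0 : u ≠ 0 := fun h => hu (by rw [h, QuadraticMap.map_zero])
      have hnot : u ∉ Submodule.span F {z} := fun h => by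
        obtain ⟨t, ht⟩ := Submodule.mem_span_singleton.1 h
        exact hu (by rw [← ht, QuadraticMap.map_smul, hz, smul_zero])
      have hlt : Submodule.span F {z} < Submodule.span F {z} ⊔ Submodule.span F {u} :=
        SetLike.lt_iff_le_and_exists.2
          ⟨le_sup_left, u, Submodule.mem_sup_right (Submodule.mem_span_singleton_self u), hnot⟩
      have h1 := Submodule.finrank_lt_finrank_of_lt hlt
      rw [finrank_span_singleton hz0] at h1
      have h2' := Submodule.finrank_le (Submodule.span F {z} ⊔ Submodule.span F {u})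
      have h3 := Module.finrank_fintype_fun_eq_card (η := ι) F
      have htop : Submodule.span F {z} ⊔ Submodule.span F {u} = ⊤ :=
        Submodule.eq_top_of_finrank_eq (by omega)
      refine eq_zero_of_polar hQ fun y => ?_
      have hy : y ∈ Submodule.span F {z} ⊔ Submodule.span F {u} := by rw [htop]; trivial
      obtain ⟨p, hp, r, hr, rfl⟩ := Submodule.mem_sup.1 hy
      obtain ⟨p', rfl⟩ := Submodule.mem_span_singleton.1 hp
      obtain ⟨r', rfl⟩ := Submodule.mem_span_singleton.1 hr
      simp [polar_add_right, polar_smul_right, hzz, polar_comm (f := ⇑Q) z u, huz]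
    -- a vector of the same value spanning a non-degenerate plane with both
    obtain ⟨w, hw, hwu, hwv, hwu', hwv'⟩ : ∃ w, Q w = Q u ∧ polar Q u w ≠ 2 * Q u ∧
        polar Q w v ≠ 2 * Q u ∧ polar Q u w ≠ -(2 * Q u) ∧ polar Q w v ≠ -(2 * Q u) := by
      have h2u : (2 * Q u : F) ≠ 0 := mul_ne_zero h2 hu
      by_cases h5 : 5 ≤ Fintype.card ι
      · obtain ⟨w, hzw, huw, hw⟩ := exists_ortho_value hQ h2 h5 hz0 hu
          (by rw [polar_comm, huz]) (Q u)
        have hwv : polar Q w v = 0 := by
          rw [show v = u + z by rw [hzdef]; abel, polar_add_right, polar_comm, huw, polar_comm, hzw,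
            add_zero]
        refine ⟨w, hw, ?_, ?_, ?_, ?_⟩ <;> simp only [huw, hwv] <;>
          first | exact h2u.symm | exact (neg_ne_zero.2 h2u).symm
      · have hq : 4 ≤ Fintype.card F := by
          have h3 := (hbig.resolve_left h5).resolve_right hsmall
          have : 2 < Fintype.card F := by
            have hodd := FiniteField.odd_card_of_char_ne_two (F := F) (fun hch => by
              have : CharP F 2 := ringChar.of_eq hch
              exact h2 CharTwo.two_eq_zero)
            have := Fintype.one_lt_card (α := F)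
            omega
          omega
        obtain ⟨s, hs⟩ : ∃ s : F, s ∉ ({0, 2 * Q u, -(2 * Q u)} : Finset F) := by
          by_contra hall
          push Not at hall
          have := Finset.card_le_card (fun x (_ : x ∈ Finset.univ) => hall x)
          have h3 : ({0, 2 * Q u, -(2 * Q u)} : Finset F).card ≤ 3 := Finset.card_le_three
          rw [Finset.card_univ] at this
          omega
        simp only [Finset.mem_insert, Finset.mem_singleton, not_or] at hs
        have hnot : z ∉ Submodule.span F {u} := by
          intro h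
          obtain ⟨t, ht⟩ := Submodule.mem_span_singleton.1 h
          rw [← ht, QuadraticMap.map_smul, smul_eq_mul, mul_eq_zero, mul_self_eq_zero] at hz
          exact hz0 (by rw [← ht, hz.resolve_right hu, zero_smul])
        obtain ⟨p₀, hup₀, hzp₀⟩ := exists_polar_eq_zero_one hQ hnot
        have hzz : polar Q z z = 0 := by rw [polar_self', hz, mul_zero]
        set p := p₀ - Q p₀ • z with hpdef
        have hup : polar Q u p = 0 := by simp [hpdef, polar_sub_right, polar_smul_right, hup₀, huz]
        have hzp : polar Q z p = 1 := by simp [hpdef, polar_sub_right, polar_smul_right, hzp₀, hzz]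
        have hp : Q p = 0 := by
          rw [hpdef, sub_eq_add_neg, ← neg_smul, QuadraticMap.map_add ⇑Q, QuadraticMap.map_smul, hz,
            polar_smul_right, polar_comm, hzp₀]
          simp
        set w := (Q u / s) • z + s • p with hwdef
        have hw : Q w = Q u := by
          simp only [hwdef, QuadraticMap.map_add ⇑Q, QuadraticMap.map_smul, polar_smul_left,
            polar_smul_right, hz, hp, hzp, smul_eq_mul, mul_zero, zero_add, mul_one]
          exact mul_div_cancel₀ _ hs.1
        have huw : polar Q u w = 0 := by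
          simp [hwdef, polar_add_right, polar_smul_right, huz, hup]
        have hwv : polar Q w v = s := by
          rw [show v = u + z by rw [hzdef]; abel, polar_add_right, polar_comm, huw, zero_add, hwdef]
          simp [polar_add_left, polar_smul_left, hzz, polar_comm (f := ⇑Q) p z, hzp]
        refine ⟨w, hw, ?_, ?_, ?_, ?_⟩ <;> simp only [huw, hwv]
        · exact h2u.symm
        · exact hs.2.1
        · exact (neg_ne_zero.2 h2u).symm
        · exact hs.2.2
    have h1 := hplane hu hw.symm hwu hwu'
    have h3 := hplane (u := w) (v := v) (by rwa [hw]) (hw.trans huv) (by rwa [hw]) (by rwa [hw])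
    have := mul_mem h1 h3
    rwa [mul_assoc, ← mul_assoc (refl Q w), refl_mul_self, one_mul] at this
  by_cases hf : polar Q u v = 2 * Q u
  · exact hplus v huv hf
  by_cases hf' : polar Q u v = -(2 * Q u)
  · rw [← refl_neg v]
    exact hplus (-v) (by rw [QuadraticMap.map_neg, huv]) (by rw [polar_neg_right, hf', neg_neg])
  exact hplane hu huv hf hf'

theorem classRefl_index (hn : 2 ≤ Fintype.card ι) (hbig : 5 ≤ Fintype.card ι ∨ Fintype.card F ≠ 3 ∨ Fintype.card ι ≤ 2)
    {c : F} (hc : c ≠ 0) :
    (Subgroup.closure {g : O Q | ∃ (v : ι → F) (t : F), t ≠ 0 ∧ Q v = c * t ^ 2 ∧ g = refl Q v}).index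
      = 2 := by
  obtain ⟨d, hd⟩ := FiniteField.exists_nonsquare (F := F) fun hch => by
    have : CharP F 2 := ringChar.of_eq hch
    exact h2 CharTwo.two_eq_zero
  have hd0 := ne_zero_of_not_isSquare h2 hd
  set S := {g : O Q | ∃ (v : ι → F) (t : F), t ≠ 0 ∧ Q v = c * t ^ 2 ∧ g = refl Q v}
  set H := Subgroup.closure S
  have : H.Normal := ⟨fun n hn g => by
    suffices H ≤ H.comap (MulAut.conj g).toMonoidHom from this hn
    refine (Subgroup.closure_le _).2 ?_
    rintro _ ⟨v, t, ht, hv, rfl⟩
    exact Subgroup.subset_closure ⟨app g v, t, ht, by rw [Q_app, hv], refl_conj g v⟩⟩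
  have hH : ∀ z, Q z = c → refl Q z ∈ H := fun z hz =>
    Subgroup.subset_closure ⟨z, 1, one_ne_zero, by rw [hz]; ring, rfl⟩
  have hker := ker_chiPair_le hQ h2 hd H fun u v hu huv => pair_mem_of_class hQ h2 hc H hH hbig hu huv
  -- `H` lies in the kernel of the other character
  have he : c * d ≠ 0 := mul_ne_zero hc hd0
  have hle : H ≤ (chi Q (c * d)).ker := by
    refine (Subgroup.closure_le _).2 ?_
    rintro _ ⟨v, t, ht, hv, rfl⟩
    have hQv : Q v ≠ 0 := by rw [hv]; exact mul_ne_zero hc (pow_ne_zero _ ht)
    rw [SetLike.mem_coe, MonoidHom.mem_ker, chi_refl h2 hQv he, if_neg]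
    rintro ⟨r, hr⟩
    rw [hv] at hr
    exact hd ⟨r / (c * t), by field_simp; linear_combination hr⟩
  obtain ⟨z, hz⟩ := exists_value_ne hQ h2 hn hc
  obtain ⟨e, he'⟩ := exists_value_ne hQ h2 hn he
  have hzH : refl Q z ∈ H := hH z hz
  have heH : refl Q e ∉ H := fun h => by
    have := MonoidHom.mem_ker.1 (hle h)
    rw [chi_refl h2 (by rwa [he']) he, he', if_pos (IsSquare.mul_self _)] at this
    exact absurd this (by decide)
  have hdvd := Subgroup.index_dvd_of_le hker
  rw [← commutator_eq hQ h2 hd, index_commutator hQ h2 hd hn] at hdvd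
  have h4 : H.index ≠ 4 := fun h => by
    have := eq_of_le_of_index_eq hker (by rw [h, ← commutator_eq hQ h2 hd, index_commutator hQ h2 hd hn])
      (by omega)
    rw [this, MonoidHom.mem_ker, chiPair_refl h2 hd (by rwa [hz]), hz] at hzH
    split_ifs at hzH <;> exact absurd hzH (by decide)
  have h1 : H.index ≠ 1 := fun h => heH (by rw [Subgroup.index_eq_one.1 h]; trivial)
  have : H.index ≤ 4 := Nat.le_of_dvd (by norm_num) hdvd
  interval_cases h : H.index <;> omega

end CfsgLib.Orth
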