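/-
Symmetric forms in even dimension: a totally isotropic half exists iff `(-1)^n disc` is a square.
-/
import Cfsg.Agent.Lib.Orth.Lagrangian
import Cfsg.Agent.Lib.QuadFin.Gram

set_option autoImplicit false
set_option linter.unusedSectionVars false

namespace CfsgLib.Orth

open Matrix QuadraticMap

variable {F V : Type*} [Field F] [AddCommGroup V] [Module F V] [FiniteDimensional F V]

/-- the determinant of the form changes by a square under change of basis -/
theorem det_basis_change (B : LinearMap.BilinForm F V) {ι κ : Type*} [Fintype ι] [DecidableEq ι]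
    [Fintype κ] [DecidableEq κ] (b : Module.Basis ι F V) (c : Module.Basis κ F V) :
    ∃ s : F, s ≠ 0 ∧ (LinearMap.BilinForm.toMatrix c B).det =
      s ^ 2 * (LinearMap.BilinForm.toMatrix b B).det := by
  have e : ι ≃ κ := b.indexEquiv c
  let c' := c.reindex e.symm
  have hc : LinearMap.BilinForm.toMatrix c B =
      (LinearMap.BilinForm.toMatrix c' B).submatrix e.symm e.symm := by
    ext i j
    simp [c', LinearMap.BilinForm.toMatrix_apply]
  let P := b.toMatrix c'
  have hP : (Pᵀ * LinearMap.BilinForm.toMatrix b B * P) = LinearMap.BilinForm.toMatrix c' B :=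
    LinearMap.BilinForm.toMatrix_mul_basis_toMatrix b c' B
  refine ⟨P.det, fun h0 => ?_, ?_⟩
  · have h1 := congrArg Matrix.det (b.toMatrix_mul_toMatrix_flip c')
    rw [Matrix.det_mul, Matrix.det_one] at h1
    change P.det * _ = 1 at h1
    rw [h0, zero_mul] at h1
    exact zero_ne_one h1
  · rw [hc, Matrix.det_submatrix_equiv_self, ← hP, Matrix.det_mul, Matrix.det_mul, Matrix.det_transpose]
    ring

/-- an isotropic half forces the discriminant -/
theorem isSquare_disc_of_lagrangian (B : LinearMap.BilinForm F V) (hS : ∀ x y, B x y = B y x)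
    {ι : Type*} [Fintype ι] [DecidableEq ι] (b : Module.Basis ι F V) {n : ℕ}
    (hn : Module.finrank F V = 2 * n) {X : Submodule F V} (hX : Module.finrank F X = n)
    (hXi : ∀ x ∈ X, ∀ y ∈ X, B x y = 0) :
    IsSquare ((-1) ^ n * (LinearMap.BilinForm.toMatrix b B).det) := by
  obtain ⟨U, hU⟩ := X.exists_isCompl
  have hUd : Module.finrank F U = n := by
    have := Submodule.finrank_add_eq_of_isCompl hU
    omega
  let c := ((Module.finBasisOfFinrankEq F X hX).prod (Module.finBasisOfFinrankEq F U hUd)).map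
    (Submodule.prodEquivOfIsCompl X U hU)
  set G := LinearMap.BilinForm.toMatrix c B with hG
  have h11 : G.toBlocks₁₁ = 0 := by
    ext i j
    show G (Sum.inl i) (Sum.inl j) = 0
    rw [hG, LinearMap.BilinForm.toMatrix_apply]
    exact hXi _ (by simp [c]) _ (by simp [c])
  have h21 : G.toBlocks₂₁ = G.toBlocks₁₂.transpose := by
    ext i j
    show G (Sum.inr i) (Sum.inl j) = G (Sum.inl j) (Sum.inr i)
    rw [hG, LinearMap.BilinForm.toMatrix_apply, LinearMap.BilinForm.toMatrix_apply, hS]
  have hJ : (Matrix.J (Fin n) F).det = 1 := SymplecticGroup.det_eq_one (SymplecticGroup.J_mem _ _)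
  have key : G.det = (-1) ^ n * G.toBlocks₁₂.det * G.toBlocks₁₂.det := by
    calc G.det = (G * Matrix.J (Fin n) F).det := by rw [Matrix.det_mul G, hJ, mul_one]
      _ = (Matrix.fromBlocks G.toBlocks₁₂ 0 G.toBlocks₂₂ (-G.toBlocks₁₂.transpose)).det := by
          conv_lhs => rw [← Matrix.fromBlocks_toBlocks G, h11, h21, Matrix.J, Matrix.fromBlocks_multiply]
          simp
      _ = _ := by
          rw [Matrix.det_fromBlocks_zero₁₂, Matrix.det_neg, Matrix.det_transpose, Fintype.card_fin]
          ring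
  obtain ⟨s, hs0, hs⟩ := det_basis_change B b c
  refine ⟨G.toBlocks₁₂.det / s, ?_⟩
  rw [← hG] at hs
  field_simp
  have h1 : ((-1 : F) ^ n) * (-1) ^ n = 1 := by
    rw [← pow_add, (Even.add_self n).neg_one_pow]
  linear_combination (G.toBlocks₁₂.det ^ 2) * h1 + (-1 : F) ^ n * key - (-1 : F) ^ n * hs

/-- over a finite field of odd order the discriminant decides -/
theorem lagrangian_iff [Fintype F] (h2 : (2 : F) ≠ 0) (B : LinearMap.BilinForm F V)
    (hB : B.Nondegenerate) (hS : ∀ x y, B x y = B y x) {ι : Type*} [Fintype ι] [DecidableEq ι]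
    (b : Module.Basis ι F V) {n : ℕ} (hn : Module.finrank F V = 2 * n) :
    (∃ X : Submodule F V, Module.finrank F X = n ∧ ∀ x ∈ X, ∀ y ∈ X, B x y = 0) ↔
      IsSquare ((-1) ^ n * (LinearMap.BilinForm.toMatrix b B).det) := by
  classical
  refine ⟨fun ⟨X, hX, hXi⟩ => isSquare_disc_of_lagrangian B hS b hn hX hXi, fun hsq => ?_⟩
  let c := Module.finBasisOfFinrankEq F V hn
  let φ : (Fin (2 * n) → F) ≃ₗ[F] V := c.equivFun.symm
  let Q : QuadraticForm F (Fin (2 * n) → F) :=
    (LinearMap.BilinMap.toQuadraticMap B).comp φ.toLinearMap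
  have hQpolar : ∀ x y, polar Q x y = 2 * B (φ x) (φ y) := fun x y => by
    simp [Q, QuadraticMap.polar, map_add, hS (φ y) (φ x)]
    ring
  have hQ : Q.polarBilin.Nondegenerate := by
    have key : ∀ x, (∀ y, polar Q x y = 0) → x = 0 := fun x hx => by
      refine φ.injective ((hB.1 (φ x) fun v => ?_).trans φ.map_zero.symm)
      have h := hx (φ.symm v)
      rw [hQpolar, φ.apply_symm_apply] at h
      exact (mul_eq_zero.1 h).resolve_left h2
    exact ⟨key, fun y hy => key y fun x => by rw [polar_comm]; exact hy x⟩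
  have hgQ : CfsgLib.QuadFin.gram ⇑Q = (2 : F) • LinearMap.BilinForm.toMatrix c B := by
    ext i j
    simp [CfsgLib.QuadFin.gram, hQpolar, φ, LinearMap.BilinForm.toMatrix_apply, Module.Basis.equivFun_symm_apply,
      Pi.single_apply]
  -- the hyperbolic form on the same coordinates
  let e : Fin n ⊕ Fin n ≃ Fin (2 * n) := finSumFinEquiv.trans (finCongr (two_mul n).symm)
  let ψ : (Fin (2 * n) → F) ≃ₗ[F] (Fin n ⊕ Fin n → F) := LinearEquiv.funCongrLeft F F e
  let H : QuadraticForm F (Fin (2 * n) → F) := (plusQ n F).comp ψ.toLinearMap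
  have hHpolar : ∀ x y, polar H x y = polar (plusQ n F) (ψ x) (ψ y) := fun x y => by
    simp [H, QuadraticMap.polar, map_add]
  have hH : H.polarBilin.Nondegenerate := by
    have key : ∀ x, (∀ y, polar H x y = 0) → x = 0 := fun x hx => by
      refine ψ.injective (((plusQ_nondegenerate (F := F) n).1 (ψ x) fun v => ?_).trans ψ.map_zero.symm)
      have h := hx (ψ.symm v)
      rw [hHpolar, ψ.apply_symm_apply] at h
      exact h
    exact ⟨key, fun y hy => key y fun x => by rw [polar_comm]; exact hy x⟩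
  set L := (coordLag n F ∅).map (ψ.symm.toLinearMap) with hL
  have hLd : Module.finrank F L = n := by
    rw [hL, LinearEquiv.finrank_map_eq]
    exact (coordLag_spec n ∅).1
  have hLQ : ∀ x ∈ L, H x = 0 := by
    rintro _ ⟨y, hy, rfl⟩
    show plusQ n F (ψ (ψ.symm y)) = 0
    rw [ψ.apply_symm_apply]
    exact (coordLag_spec n ∅).2 y hy
  have hHsq : IsSquare ((-1) ^ n * (CfsgLib.QuadFin.gram ⇑H).det) := by
    rw [CfsgLib.QuadFin.gram_eq_toMatrix]
    exact isSquare_disc_of_lagrangian H.polarBilin (fun x y => polar_comm _ x y) (Pi.basisFun F _)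
      (by rw [Module.finrank_fintype_fun_eq_card, Fintype.card_fin]) hLd
      (fun x hx y hy => ts_polar_eq_zero H hLQ hx hy)
  have hQsq : IsSquare ((-1) ^ n * (CfsgLib.QuadFin.gram ⇑Q).det) := by
    obtain ⟨s, -, hs⟩ := det_basis_change B b c
    rw [hgQ, Matrix.det_smul, Fintype.card_fin, hs]
    obtain ⟨r, hr⟩ := hsq
    exact ⟨2 ^ n * s * r, by linear_combination ((2 : F) ^ (2 * n) * s ^ 2) * hr⟩
  have hprod : IsSquare ((CfsgLib.QuadFin.gram ⇑H).det * (CfsgLib.QuadFin.gram ⇑Q).det) := by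
    have h1 : ((-1 : F) ^ n) * (-1) ^ n = 1 := by rw [← pow_add, (Even.add_self n).neg_one_pow]
    obtain ⟨r, hr⟩ := hHsq.mul hQsq
    exact ⟨r, by linear_combination hr - ((CfsgLib.QuadFin.gram ⇑H).det * (CfsgLib.QuadFin.gram ⇑Q).det) * h1⟩
  obtain ⟨g, hg⟩ := (CfsgLib.QuadFin.equiv_iff_isSquare h2 H Q hH hQ).2 hprod
  refine ⟨L.map (g.trans φ).toLinearMap, by rw [LinearEquiv.finrank_map_eq, hLd], ?_⟩
  rintro _ ⟨x, hx, rfl⟩ _ ⟨y, hy, rfl⟩
  refine (mul_eq_zero.1 ?_).resolve_left h2
  rw [LinearEquiv.coe_coe, LinearEquiv.trans_apply, LinearEquiv.trans_apply, ← hQpolar,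
    QuadraticMap.polar, ← map_add, hg, hg, hg]
  exact ts_polar_eq_zero H hLQ hx hy

end CfsgLib.Orth
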