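/-
Tensor products of bilinear forms: non-degeneracy and matrices.
-/
import Cfsg.Agent.Lib.Orth.Discriminant

set_option autoImplicit false
set_option linter.unusedSectionVars false

namespace CfsgLib.Orth

open scoped TensorProduct Kronecker
open Matrix

variable {F U W : Type*} [Field F] [AddCommGroup U] [Module F U] [FiniteDimensional F U]
  [AddCommGroup W] [Module F W] [FiniteDimensional F W]

theorem tmul_apply' (B₁ : LinearMap.BilinForm F U) (B₂ : LinearMap.BilinForm F W) (a c : U) (b d : W) :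
    (B₁.tmul B₂) (a ⊗ₜ[F] b) (c ⊗ₜ[F] d) = B₁ a c * B₂ b d := by
  rw [LinearMap.BilinForm.tensorDistrib_tmul, smul_eq_mul, mul_comm]

theorem toMatrix_tmul (B₁ : LinearMap.BilinForm F U) (B₂ : LinearMap.BilinForm F W)
    {ι κ : Type*} [Fintype ι] [DecidableEq ι] [Fintype κ] [DecidableEq κ]
    (b : Module.Basis ι F U) (c : Module.Basis κ F W) :
    LinearMap.BilinForm.toMatrix (b.tensorProduct c) (B₁.tmul B₂) =
      LinearMap.BilinForm.toMatrix b B₁ ⊗ₖ LinearMap.BilinForm.toMatrix c B₂ := by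
  ext ⟨i, j⟩ ⟨i', j'⟩
  simp [LinearMap.BilinForm.toMatrix_apply, Matrix.kroneckerMap_apply,
    Module.Basis.tensorProduct_apply, mul_comm]

theorem det_toMatrix_ne_zero (B : LinearMap.BilinForm F U) (hB : B.Nondegenerate) {ι : Type*} [Fintype ι]
    [DecidableEq ι] (b : Module.Basis ι F U) : (LinearMap.BilinForm.toMatrix b B).det ≠ 0 :=
  Matrix.nondegenerate_iff_det_ne_zero.1 (LinearMap.BilinForm.Nondegenerate.toMatrix hB b)

theorem tmul_nondegenerate (B₁ : LinearMap.BilinForm F U) (B₂ : LinearMap.BilinForm F W)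
    (h₁ : B₁.Nondegenerate) (h₂ : B₂.Nondegenerate) : (B₁.tmul B₂).Nondegenerate := by
  classical
  let b := Module.finBasis F U
  let c := Module.finBasis F W
  refine (LinearMap.BilinForm.nondegenerate_toMatrix_iff (b.tensorProduct c)).1 ?_
  rw [Matrix.nondegenerate_iff_det_ne_zero, toMatrix_tmul, Matrix.det_kronecker]
  exact mul_ne_zero (pow_ne_zero _ (det_toMatrix_ne_zero B₁ h₁ b)) (pow_ne_zero _ (det_toMatrix_ne_zero B₂ h₂ c))

theorem tmul_symm_of_alt (B₁ : LinearMap.BilinForm F U) (B₂ : LinearMap.BilinForm F W)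
    (h₁ : B₁.IsAlt) (h₂ : B₂.IsAlt) (x y : U ⊗[F] W) : (B₁.tmul B₂) x y = (B₁.tmul B₂) y x := by
  have key : (B₁.tmul B₂) = (B₁.tmul B₂).flip := by
    refine TensorProduct.ext' fun a b => TensorProduct.ext' fun c d => ?_
    rw [LinearMap.flip_apply, tmul_apply', tmul_apply', ← LinearMap.BilinForm.IsAlt.neg_eq h₁ a c, ← LinearMap.BilinForm.IsAlt.neg_eq h₂ b d]
    ring
  conv_lhs => rw [key]
  rfl

theorem tmul_symm_of_symm (B₁ : LinearMap.BilinForm F U) (B₂ : LinearMap.BilinForm F W)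
    (h₁ : B₁.IsSymm) (h₂ : B₂.IsSymm) (x y : U ⊗[F] W) : (B₁.tmul B₂) x y = (B₁.tmul B₂) y x := by
  have key : (B₁.tmul B₂) = (B₁.tmul B₂).flip := by
    refine TensorProduct.ext' fun a b => TensorProduct.ext' fun c d => ?_
    rw [LinearMap.flip_apply, tmul_apply', tmul_apply', h₁.eq a c, h₂.eq b d]
  conv_lhs => rw [key]
  rfl

end CfsgLib.Orth
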